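import Cfsg.Agent.Lib.GWKlein.A.Hyp

/-!
# Invariant `p`-subgroups and rotations: tools

`IsSylIn r R K`: `R` is a Sylow `r`-subgroup of `K`.  Elements inverted by an involution, invariant
Sylow subgroups of odd subgroups, their conjugates, and the fact that an invariant `r`-subgroup
which is not centralised and is fixed by a rotation puts `H` among the `Moves`.
-/

set_option autoImplicit false
set_option linter.unusedSectionVars false
set_option linter.style.haveILetI false

namespace CfsgLib.GWKlein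

open Subgroup
open scoped Pointwise

variable {G : Type*} [Group G]

/-- `R` is a Sylow `r`-subgroup of `K`. -/
structure IsSylIn (r : ℕ) (R K : Subgroup G) : Prop where
  le : R ≤ K
  pgroup : IsPGroup r ↥R
  index : ¬ r ∣ R.relIndex K

theorem odd_card_of_isPGroup [Finite G] {r : ℕ} [Fact r.Prime] (hr : r ≠ 2) {R : Subgroup G}
    (hR : IsPGroup r R) : Odd (Nat.card R) := by
  obtain ⟨n, hn⟩ := IsPGroup.iff_card.1 hR
  rw [hn]
  exact ((Fact.out : r.Prime).odd_of_ne_two hr).pow

theorem eq_one_of_sq_odd [Finite G] {K : Subgroup G} (hK : Odd (Nat.card K)) {y : G} (hy : y ∈ K)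
    (h : y * y = 1) : y = 1 := by
  have h1 : orderOf y ∣ 2 := orderOf_dvd_of_pow_eq_one (by rw [pow_two]; exact h)
  rcases (Nat.dvd_prime Nat.prime_two).1 h1 with e | e
  · exact orderOf_eq_one_iff.1 e
  · have := e ▸ odd_orderOf hK hy
    exact absurd this (by decide)

/-- An involution fixing and inverting an element of an odd subgroup. -/
theorem eq_one_of_odd_inverted [Finite G] {K : Subgroup G} (hK : Odd (Nat.card K)) {v y : G}
    (hy : y ∈ K) (hc : Commute v y) (hi : v * y * v⁻¹ = y⁻¹) : y = 1 := by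
  rw [hc.eq, mul_inv_cancel_right] at hi
  exact eq_one_of_sq_odd hK hy (by nth_rw 2 [hi]; exact mul_inv_cancel y)

theorem mem_centralizer_singleton' {v y : G} : y ∈ centralizer ({v} : Set G) ↔ Commute v y :=
  mem_centralizer_singleton_iff.trans ⟨fun h => h.symm, fun h => h.symm⟩

theorem conj_mem_of_mem_normalizer {K : Subgroup G} {g x : G} (hg : g ∈ normalizer (K : Set G))
    (hx : x ∈ K) : g * x * g⁻¹ ∈ K :=
  (mem_normalizer_iff.1 hg x).1 hx

/-- An involution not centralising an invariant subgroup inverts one of its elements. -/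
theorem exists_inverted_of_not_le {K : Subgroup G} {v : G} (hv : v * v = 1)
    (hn : v ∈ normalizer (K : Set G)) (h : ¬ K ≤ centralizer ({v} : Set G)) :
    ∃ y ∈ K, y ≠ 1 ∧ v * y * v⁻¹ = y⁻¹ := by
  obtain ⟨x, hx, hxv⟩ := SetLike.not_le_iff_exists.1 h
  have hvi : v⁻¹ = v := inv_eq_of_mul_eq_one_right hv
  refine ⟨x⁻¹ * (v * x * v⁻¹), mul_mem (inv_mem hx) (conj_mem_of_mem_normalizer hn hx),
    fun e => hxv (mem_centralizer_singleton'.2 ?_), ?_⟩
  · show v * x = x * v
    conv_rhs => rw [← inv_inv x, inv_eq_of_mul_eq_one_right e]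
    rw [inv_mul_cancel_right]
  · simp only [mul_inv_rev, inv_inv, hvi, ← mul_assoc]
    rw [mul_assoc (v * x⁻¹ * v * x) v v, hv, mul_one]

namespace IsSylIn

variable [Finite G] {r : ℕ} [Fact r.Prime] {R R' K Q : Subgroup G}

theorem exists_sylow (h : IsSylIn r R K) :
    ∃ P : Sylow r K, (P : Subgroup K).map K.subtype = R := by
  refine ⟨(h.pgroup.of_equiv (subgroupOfEquivOfLe h.le).symm).toSylow
    (show ¬ r ∣ (R.subgroupOf K).index from h.index), ?_⟩
  show (R.subgroupOf K).map K.subtype = R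
  rw [subgroupOf_map_subtype, inf_eq_left.2 h.le]

theorem of_sylow (P : Sylow r K) : IsSylIn r ((P : Subgroup K).map K.subtype) K :=
  ⟨map_subtype_le _, P.2.map _, by
    rw [relIndex, subgroupOf, comap_map_eq_self_of_injective K.subtype_injective]
    exact P.not_dvd_index⟩

theorem card_eq (h : IsSylIn r R K) (h' : IsSylIn r R' K) : Nat.card R = Nat.card R' := by
  obtain ⟨P, rfl⟩ := h.exists_sylow
  obtain ⟨P', rfl⟩ := h'.exists_sylow
  rw [Coprime.card_map_subtype, Coprime.card_map_subtype, P.card_eq_multiplicity,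
    P'.card_eq_multiplicity]

theorem card_le (h : IsSylIn r R K) (hQK : Q ≤ K) (hQ : IsPGroup r Q) :
    Nat.card Q ≤ Nat.card R := by
  obtain ⟨P, hP⟩ := (hQ.of_equiv (subgroupOfEquivOfLe hQK).symm).exists_le_sylow
  rw [h.card_eq (of_sylow P), ← Nat.card_congr (subgroupOfEquivOfLe hQK).toEquiv,
    Coprime.card_map_subtype]
  exact card_le_of_le hP

theorem eq_of_le (h : IsSylIn r R K) (hRQ : R ≤ Q) (hQK : Q ≤ K) (hQ : IsPGroup r Q) : Q = R :=
  (Subgroup.eq_of_le_of_card_ge hRQ (h.card_le hQK hQ)).symm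

end IsSylIn

namespace Setting

variable [Finite G] {t a : G} (S : Setting G t a) {r : ℕ} [Fact r.Prime]
include S

theorem inv_of_mem {v : G} (hv : v ∈ four t a) : v⁻¹ = v :=
  inv_eq_of_mul_eq_one_right (S.four_sq hv)

/-- The four-group centralises what `t` and `a` centralise. -/
theorem le_centralizer_four {K : Subgroup G} (ht : K ≤ centralizer ({t} : Set G))
    (ha : K ≤ centralizer ({a} : Set G)) : K ≤ centralizer (four t a : Set G) := fun _ hy =>
  S.commute_four (mem_centralizer_singleton'.1 (ht hy)) (mem_centralizer_singleton'.1 (ha hy))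

theorem commute_of_mem_centralizer_four {v y : G} (hy : y ∈ centralizer (four t a : Set G))
    (hv : v ∈ four t a) : Commute v y :=
  mem_centralizer_iff.1 hy v hv

theorem centralizer_four_le_of_mem {v : G} (hv : v ∈ four t a) :
    centralizer (four t a : Set G) ≤ centralizer ({v} : Set G) :=
  centralizer_le (Set.singleton_subset_iff.2 hv)

theorem solvable_or (K : Subgroup G) : Group.IsSolvable ↥(four t a) ∨ Group.IsSolvable ↥K :=
  Or.inl S.solvable_four

theorem exists_sylow_vinv {K : Subgroup G} (hK : Odd (Nat.card K))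
    (hV : four t a ≤ normalizer (K : Set G)) :
    ∃ R : Subgroup G, IsSylIn r R K ∧ VInv r t a R := by
  obtain ⟨P, hP⟩ := Coprime.exists_invariant_sylow hV (S.coprime_four hK) (S.solvable_or K) r
  exact ⟨_, IsSylIn.of_sylow P, P.2.map _, hK.of_dvd_nat (card_dvd_of_le (map_subtype_le _)), hP⟩

theorem exists_sylow_ge {K P : Subgroup G} (hK : Odd (Nat.card K))
    (hV : four t a ≤ normalizer (K : Set G)) (hPK : P ≤ K) (hP : VInv r t a P) :
    ∃ R : Subgroup G, IsSylIn r R K ∧ VInv r t a R ∧ P ≤ R := by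
  obtain ⟨U, hPU, hU⟩ := Coprime.exists_le_invariant_sylow hV (S.coprime_four hK) (S.solvable_or K)
    hPK hP.pgroup hP.le_norm
  exact ⟨_, IsSylIn.of_sylow U, ⟨U.2.map _, hK.of_dvd_nat (card_dvd_of_le (map_subtype_le _)), hU⟩,
    hPU⟩

/-- Invariant Sylow subgroups are conjugate by elements centralising the four-group. -/
theorem exists_conj_eq {K R R' : Subgroup G} (hK : Odd (Nat.card K))
    (hV : four t a ≤ normalizer (K : Set G)) (h : IsSylIn r R K) (hR : VInv r t a R)
    (h' : IsSylIn r R' K) (hR' : VInv r t a R') :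
    ∃ c ∈ K, c ∈ centralizer (four t a : Set G) ∧ R.map (MulAut.conj c).toMonoidHom = R' := by
  obtain ⟨P, rfl⟩ := h.exists_sylow
  obtain ⟨P', rfl⟩ := h'.exists_sylow
  obtain ⟨c, hc, he⟩ := Coprime.exists_centralizer_conj_sylow hV (S.coprime_four hK)
    (S.solvable_or K) P P' hR.le_norm hR'.le_norm
  refine ⟨c, c.2, hc, ?_⟩
  rw [← Coprime.map_smul_sylow, he]

/-- An invariant `r`-subgroup lies in a conjugate of a given invariant Sylow subgroup. -/
theorem exists_le_conj {K P R : Subgroup G} (hK : Odd (Nat.card K))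
    (hV : four t a ≤ normalizer (K : Set G)) (hPK : P ≤ K) (hP : VInv r t a P)
    (h : IsSylIn r R K) (hR : VInv r t a R) :
    ∃ c ∈ K, c ∈ centralizer (four t a : Set G) ∧ P ≤ R.map (MulAut.conj c).toMonoidHom := by
  obtain ⟨R', h', hR', hPR'⟩ := S.exists_sylow_ge hK hV hPK hP
  obtain ⟨c, hcK, hc, he⟩ := S.exists_conj_eq hK hV h hR h' hR'
  exact ⟨c, hcK, hc, he ▸ hPR'⟩

omit [Fact r.Prime] in
theorem vinv_of_pgroup [Fact r.Prime] (hr : r ≠ 2) {P : Subgroup G} (hP : IsPGroup r P)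
    (hV : four t a ≤ normalizer (P : Set G)) : VInv r t a P :=
  ⟨hP, odd_card_of_isPGroup hr hP, hV⟩

omit [Fact r.Prime] in
theorem vinv_map {P : Subgroup G} (hP : VInv r t a P) {g : G}
    (hg : ∀ v ∈ four t a, g⁻¹ * v * g ∈ four t a) :
    VInv r t a (P.map (MulAut.conj g).toMonoidHom) := by
  refine ⟨hP.pgroup.map _, by rw [card_map_of_injective (MulAut.conj g).injective]; exact hP.odd,
    fun v hv => mem_normalizer_iff_map_conj_eq.2 (Subgroup.eq_of_le_of_card_ge ?_
      (card_map_of_injective (MulAut.conj v).injective).ge)⟩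
  rintro _ ⟨_, ⟨x, hx, rfl⟩, rfl⟩
  refine ⟨g⁻¹ * v * g * x * (g⁻¹ * v * g)⁻¹,
    conj_mem_of_mem_normalizer (hP.le_norm (hg v hv)) hx, ?_⟩
  show g * _ * g⁻¹ = v * (g * x * g⁻¹) * v⁻¹
  group

omit [Fact r.Prime] in
theorem vinv_inf {P K : Subgroup G} (hP : VInv r t a P) (hK : four t a ≤ normalizer (K : Set G)) :
    VInv r t a (P ⊓ K) :=
  ⟨hP.pgroup.to_le inf_le_left, hP.odd.of_dvd_nat (card_dvd_of_le inf_le_left),
    (le_inf hP.le_norm hK).trans inf_normalizer_le_normalizer_inf⟩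

omit [Fact r.Prime] in
theorem le_normalizer_core_of_le {H : Subgroup G} (hV : four t a ≤ H) :
    four t a ≤ normalizer (core H : Set G) :=
  hV.trans (le_normalizer.trans (le_normalizer_core H))

omit [Fact r.Prime] in
theorem le_normalizer_oddPart : four t a ≤ normalizer (oddPart t : Set G) :=
  (S.four_le_centralizer S.t_mem).trans (le_normalizer.trans (le_normalizer_core _))

omit [Fact r.Prime] in
/-- An element of odd order centralising `t` lies in `oddPart t`. -/
theorem le_oddPart {K : Subgroup G} (hK : Odd (Nat.card K))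
    (ht : K ≤ centralizer ({t} : Set G)) : K ≤ oddPart t := fun _ hy =>
  S.mem_oddPart.2 ⟨odd_orderOf hK hy, mem_centralizer_singleton'.1 (ht hy)⟩

omit [Fact r.Prime] in
/-- Conjugation by a rotation carries `oddPart t` to `oddPart a`. -/
theorem map_oddPart_rot {g : G} (hg : g * t * g⁻¹ = a) :
    (oddPart t).map (MulAut.conj g).toMonoidHom = oddPart a := by
  ext y
  rw [S.symm.mem_oddPart, mem_map_equiv, S.mem_oddPart, MulAut.conj_symm_apply, ← hg]
  have ho : orderOf (g⁻¹ * y * g) = orderOf y := by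
    rw [← orderOf_injective (MulAut.conj g).toMonoidHom (MulAut.conj g).injective (g⁻¹ * y * g)]
    exact congrArg orderOf (by show g * (g⁻¹ * y * g) * g⁻¹ = y; group)
  rw [ho]
  refine and_congr_right fun _ => ⟨fun h => ?_, fun h => ?_⟩
  · show g * t * g⁻¹ * y = y * (g * t * g⁻¹)
    calc g * t * g⁻¹ * y = g * (t * (g⁻¹ * y * g)) * g⁻¹ := by group
      _ = g * (g⁻¹ * y * g * t) * g⁻¹ := by rw [h.eq]
      _ = y * (g * t * g⁻¹) := by group
  · show t * (g⁻¹ * y * g) = g⁻¹ * y * g * t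
    calc t * (g⁻¹ * y * g) = g⁻¹ * (g * t * g⁻¹ * y) * g := by group
      _ = g⁻¹ * (y * (g * t * g⁻¹)) * g := by rw [h.eq]
      _ = g⁻¹ * y * g * t := by group

omit [Fact r.Prime] in
/-- Composing a rotation with an element centralising the four-group gives a rotation. -/
theorem rot_mul {g c : G} (hg : Rot t a g) (hc : c ∈ centralizer (four t a : Set G)) :
    Rot t a (c * g) := by
  have h : ∀ v ∈ four t a, c * v * c⁻¹ = v := fun v hv => by
    rw [← (mem_centralizer_iff.1 hc v hv), mul_inv_cancel_right]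
  exact ⟨by rw [show c * g * t * (c * g)⁻¹ = c * (g * t * g⁻¹) * c⁻¹ by group, hg.1, h a S.a_mem],
    by rw [show c * g * a * (c * g)⁻¹ = c * (g * a * g⁻¹) * c⁻¹ by group, hg.2, h _ S.ta_mem]⟩

/-- A subgroup with a rotation has a rotation normalising a given invariant Sylow subgroup of its
core. -/
theorem exists_rot_normalizing {H R : Subgroup G} (hV : four t a ≤ H) (h : IsSylIn r R (core H))
    (hR : VInv r t a R) {g : G} (hg : g ∈ H) (hrot : Rot t a g) :
    ∃ g' ∈ H, Rot t a g' ∧ g' ∈ normalizer (R : Set G) := by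
  have hgi : ∀ v ∈ four t a, g⁻¹ * v * g ∈ four t a := fun v hv => by
    have := conj_mem_of_mem_normalizer (inv_mem (hrot.mem_normalizer S)) hv
    rwa [inv_inv] at this
  set R' := R.map (MulAut.conj g).toMonoidHom
  have hR'K : R' ≤ core H := by
    rintro _ ⟨y, hy, rfl⟩
    exact conj_mem_of_mem_normalizer (le_normalizer_core H (le_normalizer hg)) (h.le hy)
  have h' : IsSylIn r R' (core H) := by
    obtain ⟨T, hT⟩ := (h.pgroup.map (MulAut.conj g).toMonoidHom).of_equiv
      (subgroupOfEquivOfLe hR'K).symm |>.exists_le_sylow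
    have hle : R' ≤ (T : Subgroup (core H)).map (core H).subtype :=
      fun y hy => ⟨⟨y, hR'K hy⟩, hT hy, rfl⟩
    rw [Subgroup.eq_of_le_of_card_ge hle (by
      rw [(IsSylIn.of_sylow T).card_eq h]
      exact (card_map_of_injective (MulAut.conj g).injective).ge)]
    exact IsSylIn.of_sylow T
  obtain ⟨c, hcK, hc, he⟩ := S.exists_conj_eq (odd_card_core H) (S.le_normalizer_core_of_le hV) h'
    (S.vinv_map hR hgi) h hR
  refine ⟨c * g, mul_mem (core_le H hcK) hg, S.rot_mul hrot hc,
    mem_normalizer_iff_map_conj_eq.2 ?_⟩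
  show R.map (MulAut.conj (c * g)).toMonoidHom = R
  conv_rhs => rw [← he]
  rw [Subgroup.map_map, map_mul]
  rfl

end Setting

/-- Modulo the core an invariant subgroup is centralised by one of the involutions. -/
theorem Hyp.exists_comm_mem_core [Finite G] {t a : G} (S : Hyp G t a) {r : ℕ} [Fact r.Prime]
    {H P : Subgroup G} (hH : H ≠ ⊤) (hV : four t a ≤ H) (hP : VInv r t a P) (hPH : P ≤ H) :
    ∃ v ∈ four t a, v ≠ 1 ∧ ∀ x ∈ P, v * x * v⁻¹ * x⁻¹ ∈ core H := by
  have key : ∀ v ∈ four t a, P ≤ core H ⊔ (oddPart v ⊓ H) →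
      ∀ x ∈ P, v * x * v⁻¹ * x⁻¹ ∈ core H := by
    intro v hv hle x hx
    have hx' : x ∈ ((core H : Set G) * ((oddPart v ⊓ H : Subgroup G) : Set G)) := by
      rw [← coe_mul_of_right_le_normalizer_left (core H) (oddPart v ⊓ H)
        (inf_le_right.trans (le_normalizer.trans (le_normalizer_core H)))]
      exact hle hx
    obtain ⟨c, hc, o, ho, rfl⟩ := hx'
    have e : v * o * v⁻¹ = o := by
      rw [(commute_of_mem_oddPart (mem_inf.1 ho).1).eq, mul_inv_cancel_right]
    rw [show v * (c * o) * v⁻¹ * (c * o)⁻¹ = v * c * v⁻¹ * (v * o * v⁻¹) * o⁻¹ * c⁻¹ by group, e,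
      mul_inv_cancel_right]
    exact mul_mem (core_conj_mem H (le_normalizer (hV hv)) hc) (inv_mem hc)
  rcases S.single H hH hV r P Fact.out hP hPH with h | h | h
  exacts [⟨t, S.setting.t_mem, S.setting.t_ne_one, key t S.setting.t_mem h⟩,
    ⟨a, S.setting.a_mem, S.setting.a_ne_one, key a S.setting.a_mem h⟩,
    ⟨t * a, S.setting.ta_mem, S.setting.ta_ne_one, key _ S.setting.ta_mem h⟩]

/-- An invariant `r`-subgroup fixed by a rotation has all its commutators with the four-group in the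
core. -/
theorem Hyp.comm_mem_core_of_rot [Finite G] {t a : G} (S : Hyp G t a) {r : ℕ} [Fact r.Prime]
    {H X : Subgroup G} (hH : H ≠ ⊤) (hV : four t a ≤ H) (hX : VInv r t a X) (hXH : X ≤ H) {g : G}
    (hg : g ∈ H) (hrot : Rot t a g) (hgX : g ∈ normalizer (X : Set G)) :
    ∀ v ∈ four t a, ∀ x ∈ X, v * x * v⁻¹ * x⁻¹ ∈ core H := by
  obtain ⟨w, hw, hw1, hwX⟩ := S.exists_comm_mem_core hH hV hX hXH
  have step : ∀ v, (∀ x ∈ X, v * x * v⁻¹ * x⁻¹ ∈ core H) →
      ∀ x ∈ X, g * v * g⁻¹ * x * (g * v * g⁻¹)⁻¹ * x⁻¹ ∈ core H := by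
    intro v hv x hx
    have hx' : g⁻¹ * x * g ∈ X := by
      have := conj_mem_of_mem_normalizer (inv_mem hgX) hx
      rwa [inv_inv] at this
    have := core_conj_mem H (le_normalizer hg) (hv _ hx')
    convert this using 1
    group
  have h3 : ∀ v ∈ four t a, v ≠ 1 → ∀ x ∈ X, v * x * v⁻¹ * x⁻¹ ∈ core H := by
    have hall : (∀ x ∈ X, t * x * t⁻¹ * x⁻¹ ∈ core H) ∧ (∀ x ∈ X, a * x * a⁻¹ * x⁻¹ ∈ core H) ∧
        ∀ x ∈ X, t * a * x * (t * a)⁻¹ * x⁻¹ ∈ core H := by
      have s1 := step t; rw [hrot.1] at s1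
      have s2 := step a; rw [hrot.2] at s2
      have s3 := step (t * a); rw [hrot.map_ta S.setting] at s3
      rcases S.setting.mem_four_iff.1 hw with rfl | rfl | rfl | rfl
      exacts [absurd rfl hw1, ⟨hwX, s1 hwX, s2 (s1 hwX)⟩, ⟨s3 (s2 hwX), hwX, s2 hwX⟩,
        ⟨s3 hwX, s1 (s3 hwX), hwX⟩]
    intro v hv hv1
    rcases S.setting.mem_four_iff.1 hv with rfl | rfl | rfl | rfl
    exacts [absurd rfl hv1, hall.1, hall.2.1, hall.2.2]
  intro v hv x hx
  rcases eq_or_ne v 1 with rfl | hv1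
  · simp
  · exact h3 v hv hv1 x hx

/-- The criterion for `Moves`. -/
theorem Hyp.moves_of_rot [Finite G] {t a : G} (S : Hyp G t a) {r : ℕ} [Fact r.Prime]
    {H X : Subgroup G} (hH : H ≠ ⊤) (hV : four t a ≤ H) (hX : VInv r t a X) (hXH : X ≤ H) {g : G}
    (hg : g ∈ H) (hrot : Rot t a g) (hgX : g ∈ normalizer (X : Set G))
    (hne : ¬ X ≤ centralizer (four t a : Set G)) : Moves r t a H := by
  refine ⟨hH, ⟨hV, g, hg, hrot⟩, X ⊓ core H,
    S.setting.vinv_inf hX (S.setting.le_normalizer_core_of_le hV), inf_le_right, fun hle => hne ?_⟩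
  intro x hx
  refine mem_centralizer_iff.2 fun v hv => ?_
  set y := v * x * v⁻¹ * x⁻¹ with hy
  have hyX : y ∈ X := mul_mem (conj_mem_of_mem_normalizer (hX.le_norm hv) hx) (inv_mem hx)
  have hc : Commute v y := S.setting.commute_of_mem_centralizer_four
    (hle ⟨hyX, S.comm_mem_core_of_rot hH hV hX hXH hg hrot hgX v hv x hx⟩) hv
  have hvi := S.setting.inv_of_mem hv
  have hy1 : y = 1 := eq_one_of_odd_inverted hX.odd hyX hc (by
    rw [hy]
    simp only [mul_inv_rev, inv_inv, hvi, ← mul_assoc]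
    rw [S.setting.four_sq hv, one_mul])
  exact mul_inv_eq_iff_eq_mul.1 (mul_inv_eq_one.1 hy1)

end CfsgLib.GWKlein
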