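import Cfsg.Agent.Lib.GWKlein.Basic
import Cfsg.Agent.Lib.Fusion.NormalRankTwo
import Cfsg.Agent.Lib.PGroup.CoprimeFix

/-!
# Maximality of the centraliser of an involution: elementary abelian subgroups of rank three

Invariant `r`-subgroups moved by all three involutions of the four-group give, with an element
centralised by the four-group, elementary abelian subgroups of order `r³`; in an `r`-group these
are linked to a fixed normal elementary abelian subgroup of order `r²`.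
-/

set_option autoImplicit false
set_option linter.unusedSectionVars false
set_option linter.style.haveILetI false

open scoped commutatorElement

namespace CfsgLib.GWKlein

open Subgroup

variable {G : Type*} [Group G]

/-- An elementary abelian `r`-subgroup of order at least `r ^ k`. -/
def Elem (r k : ℕ) (E : Subgroup G) : Prop :=
  Cfsg.IsElementaryAbelian r E ∧ r ^ k ≤ Nat.card ↥E

theorem elem_closure {r : ℕ} {s : Set G} (hcomm : ∀ x ∈ s, ∀ y ∈ s, x * y = y * x)
    (hpow : ∀ x ∈ s, x ^ r = 1) : Cfsg.IsElementaryAbelian r (closure s) := by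
  have hab : IsMulCommutative (closure s) := isMulCommutative_closure hcomm
  refine ⟨hab, fun a ha => ?_⟩
  haveI := hab
  induction ha using closure_induction with
  | mem x hx => exact hpow x hx
  | one => exact one_pow r
  | mul x y hx hy ihx ihy =>
    have hc : Commute x y := congrArg Subtype.val (mul_comm' (⟨x, hx⟩ : closure s) ⟨y, hy⟩)
    rw [hc.mul_pow, ihx, ihy, one_mul]
  | inv x hx ih => rw [inv_pow, ih, inv_one]

/-- Three commuting elements of order `r` in different eigenspaces give rank three. -/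
theorem rank_three_eigen [Finite G] {r : ℕ} (hrp : r.Prime) (hr : r ≠ 2) {t a x y w : G}
    (hx : orderOf x = r) (hy : orderOf y = r) (hw : orderOf w = r)
    (hxy : Commute x y) (hxw : Commute x w) (hyw : Commute y w)
    (hxt : t * x * t⁻¹ = x) (hxa : a * x * a⁻¹ = x⁻¹)
    (hyt : t * y * t⁻¹ = y⁻¹) (hya : a * y * a⁻¹ = y)
    (hwta : (t * w * t⁻¹ = w ∧ a * w * a⁻¹ = w) ∨ (t * w * t⁻¹ = w⁻¹ ∧ a * w * a⁻¹ = w⁻¹)) :
    ∃ E ≤ closure ({x, y, w} : Set G), Elem r 3 E := by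
  set E := closure ({x, y, w} : Set G) with hE
  refine ⟨E, le_rfl, elem_closure ?_ ?_, ?_⟩
  · rintro p (rfl | rfl | rfl) q (rfl | rfl | rfl)
    all_goals first
      | rfl
      | exact hxy.eq
      | exact hxy.symm.eq
      | exact hxw.eq
      | exact hxw.symm.eq
      | exact hyw.eq
      | exact hyw.symm.eq
  · rintro p (rfl | rfl | rfl)
    exacts [hx ▸ pow_orderOf_eq_one p, hy ▸ pow_orderOf_eq_one p, hw ▸ pow_orderOf_eq_one p]
  have hxE : x ∈ E := subset_closure (by simp)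
  have hyE : y ∈ E := subset_closure (by simp)
  have hwE : w ∈ E := subset_closure (by simp)
  -- a relation is trivial
  have two : ∀ (b : G) (i : ℤ), orderOf b = r → b ^ i = (b⁻¹) ^ i → b ^ i = 1 := by
    intro b i hb h
    have h2 : b ^ (2 * i) = 1 := by
      rw [two_mul, zpow_add]; nth_rewrite 2 [h]; rw [inv_zpow, mul_inv_cancel]
    rw [← orderOf_dvd_iff_zpow_eq_one, hb] at h2 ⊢
    refine (Int.Prime.dvd_mul' hrp h2).resolve_left fun h2' => hr ?_
    exact (Nat.prime_dvd_prime_iff_eq hrp Nat.prime_two).1 (Int.natCast_dvd_natCast.1 h2')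
  have rel : ∀ i j k : ℤ, x ^ i * y ^ j * w ^ k = 1 → x ^ i = 1 ∧ y ^ j = 1 ∧ w ^ k = 1 := by
    intro i j k h
    have ct : ∀ (g b : G) (i : ℤ), g * b ^ i * g⁻¹ = (g * b * g⁻¹) ^ i := fun g b i => conj_zpow.symm
    have img : ∀ g : G, (g * x * g⁻¹) ^ i * (g * y * g⁻¹) ^ j * (g * w * g⁻¹) ^ k = 1 := fun g => by
      rw [← ct, ← ct, ← ct, conj_mul, conj_mul, h, mul_one, mul_inv_cancel]
    rcases hwta with ⟨h1, h2⟩ | ⟨h1, h2⟩
    · have e1 := (img t).trans h.symm
      rw [hxt, hyt, h1, mul_left_inj, mul_right_inj] at e1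
      have ej := two y j hy e1.symm
      have e2 := (img a).trans h.symm
      rw [hxa, hya, h2, mul_left_inj, mul_left_inj] at e2
      have ei := two x i hx e2.symm
      rw [ei, ej, one_mul, one_mul] at h
      exact ⟨ei, ej, h⟩
    · have e1 := img t
      rw [hxt, hyt, h1] at e1
      have ei : x ^ i = 1 := by
        refine two x i hx ?_
        have hyw' : Commute (y ^ j) (w ^ k) := hyw.zpow_zpow j k
        have h' : y ^ j * w ^ k = (x ^ i)⁻¹ := eq_inv_of_mul_eq_one_right (by rw [← mul_assoc]; exact h)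
        rw [inv_zpow, inv_zpow, mul_assoc, ← mul_inv_rev, hyw'.symm.eq, h', inv_inv] at e1
        rw [inv_zpow]
        exact eq_inv_of_mul_eq_one_left e1
      rw [ei, one_mul] at h
      have e2 := img a
      rw [hxa, hya, h2, inv_zpow, ei, inv_one, one_mul] at e2
      have ek : w ^ k = 1 := two w k hw (by
        rw [← mul_eq_one_iff_inv_eq.1 h, ← mul_eq_one_iff_inv_eq.1 e2])
      rw [ek, mul_one] at h
      exact ⟨ei, h, ek⟩
  let f : Fin r × Fin r × Fin r → E := fun p =>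
    ⟨x ^ ((p.1 : ℕ) : ℤ) * y ^ ((p.2.1 : ℕ) : ℤ) * w ^ ((p.2.2 : ℕ) : ℤ),
      mul_mem (mul_mem (zpow_mem hxE _) (zpow_mem hyE _)) (zpow_mem hwE _)⟩
  have hf : Function.Injective f := by
    rintro ⟨i, j, k⟩ ⟨i', j', k'⟩ h
    have h' : x ^ ((i : ℕ) : ℤ) * y ^ ((j : ℕ) : ℤ) * w ^ ((k : ℕ) : ℤ) =
        x ^ ((i' : ℕ) : ℤ) * y ^ ((j' : ℕ) : ℤ) * w ^ ((k' : ℕ) : ℤ) := congrArg Subtype.val h
    set i₁ := ((i : ℕ) : ℤ); set j₁ := ((j : ℕ) : ℤ); set k₁ := ((k : ℕ) : ℤ)
    set i₂ := ((i' : ℕ) : ℤ); set j₂ := ((j' : ℕ) : ℤ); set k₂ := ((k' : ℕ) : ℤ)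
    have c1 : Commute (x ^ (-i₂)) (y ^ j₁) := hxy.zpow_zpow _ _
    have c2 : Commute (x ^ i₁) (y ^ (-j₂)) := hxy.zpow_zpow _ _
    obtain ⟨e1, e2, e3⟩ := rel (i₁ - i₂) (j₁ - j₂) (k₁ - k₂) (by
      have cx : Commute (x ^ (-i₂)) (y ^ j₁ * w ^ k₁) := c1.mul_right (hxw.zpow_zpow _ _)
      have cy : Commute (y ^ (-j₂)) (w ^ k₁) := hyw.zpow_zpow _ _
      rw [sub_eq_add_neg, sub_eq_add_neg, sub_eq_add_neg, zpow_add, zpow_add, zpow_add]
      calc x ^ i₁ * x ^ (-i₂) * (y ^ j₁ * y ^ (-j₂)) * (w ^ k₁ * w ^ (-k₂))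
          = x ^ i₁ * x ^ (-i₂) * y ^ j₁ * (y ^ (-j₂) * w ^ k₁) * w ^ (-k₂) := by group
        _ = x ^ i₁ * (x ^ (-i₂) * (y ^ j₁ * w ^ k₁)) * y ^ (-j₂) * w ^ (-k₂) := by rw [cy.eq]; group
        _ = x ^ i₁ * y ^ j₁ * w ^ k₁ * (x ^ (-i₂) * y ^ (-j₂) * w ^ (-k₂)) := by rw [cx.eq]; group
        _ = 1 := by
          rw [h', zpow_neg, zpow_neg, zpow_neg, ← mul_inv_rev, ← mul_inv_rev]
          have c3 : Commute (w ^ k₂) (y ^ j₂) := hyw.symm.zpow_zpow _ _
          have c4 : Commute (y ^ j₂ * x ^ i₂) (w ^ k₂) :=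
            c3.symm.mul_left (hxw.zpow_zpow _ _)
          rw [← c4.eq, ← (hxy.zpow_zpow i₂ j₂).eq, mul_inv_cancel])
    have key : ∀ (b : G) (m n : Fin r), orderOf b = r → b ^ (((m : ℕ) : ℤ) - ((n : ℕ) : ℤ)) = 1 → m = n := by
      intro b m n hb e
      rw [← orderOf_dvd_iff_zpow_eq_one, hb] at e
      have hm := m.2
      have hn := n.2
      have := Int.eq_zero_of_abs_lt_dvd e (abs_lt.2 ⟨by omega, by omega⟩)
      exact Fin.ext (by omega)
    rw [key x i i' hx e1, key y j j' hy e2, key w k k' hw e3]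
  have := Nat.card_le_card_of_injective f hf
  simp only [Nat.card_prod, Nat.card_fin] at this
  rw [pow_three]; exact this

/-- Three types, or two types and an element fixed by the four-group. -/
theorem rank_three_of_types [Finite G] {t a : G} (S : Setting G t a) {r : ℕ} (hrp : r.Prime) (hr : r ≠ 2)
    {x y w : G} (hx : orderOf x = r) (hy : orderOf y = r) (hw : orderOf w = r)
    (hxy : Commute x y) (hxw : Commute x w) (hyw : Commute y w)
    (hxt : t * x * t⁻¹ = x) (hxa : a * x * a⁻¹ = x⁻¹)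
    (hyt : t * y * t⁻¹ = y⁻¹) (hya : a * y * a⁻¹ = y)
    (hwta : w ∈ centralizer (four t a : Set G) ∨ (t * w * t⁻¹ = w⁻¹ ∧ a * w * a⁻¹ = w⁻¹)) :
    ∃ E ≤ closure ({x, y, w} : Set G), Elem r 3 E := by
  refine rank_three_eigen hrp hr hx hy hw hxy hxw hyw hxt hxa hyt hya ?_
  rcases hwta with h | h
  · exact Or.inl ⟨mul_inv_eq_iff_eq_mul.2 (mem_centralizer_iff.1 h t S.t_mem),
      mul_inv_eq_iff_eq_mul.2 (mem_centralizer_iff.1 h a S.a_mem)⟩
  · exact Or.inr h

/-- An involution normalising `J` and not centralising it moves a small element of a characteristic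
subgroup of class two. -/
theorem exists_class_two [Finite G] {r : ℕ} [Fact r.Prime] (hr : r ≠ 2) {J : Subgroup G}
    (hJ : IsPGroup r ↥J) :
    ∃ K : Subgroup G, K ≤ J ∧ (∀ k ∈ K, k ^ r = 1) ∧
      (∀ u ∈ K, ∀ v ∈ K, ∀ w ∈ K, Commute ⁅u, v⁆ w) ∧
      (∀ n ∈ normalizer (J : Set G), ∀ k ∈ K, n * k * n⁻¹ ∈ K) ∧
      ∀ n ∈ normalizer (J : Set G), (orderOf n).Coprime r → (∀ k ∈ K, n * k * n⁻¹ = k) →
        n ∈ centralizer (J : Set G) := by
  obtain ⟨C, hc, hC, hcrit⟩ := CfsgLib.PGroup.CoprimeFix.exists_critical hJ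
  have hq : CfsgLib.PGroup.CoprimeFix.qq r = r := if_neg hr
  refine ⟨hC.small.map J.subtype, map_subtype_le _, ?_, ?_, ?_, ?_⟩
  · rintro _ ⟨k, hk, rfl⟩
    have h := hk.2
    rw [hq] at h
    show (k : G) ^ r = 1
    rw [← SubmonoidClass.coe_pow, h, OneMemClass.coe_one]
  · rintro _ ⟨u, hu, rfl⟩ _ ⟨v, hv, rfl⟩ _ ⟨w, hw, rfl⟩
    rw [← map_commutatorElement]
    exact (hC.comm u hu.1 v hv.1 w hw.1).map J.subtype
  · rintro n hn _ ⟨k, hk, rfl⟩
    let φ : MulAut ↥J := J.normalizerMonoidHom ⟨n, hn⟩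
    exact ⟨φ k, ⟨characteristic_iff_map_le.mp hc φ ⟨k, hk.1, rfl⟩, by rw [← map_pow, hk.2, map_one]⟩, rfl⟩
  · intro n hn ho hfix
    let φ : MulAut ↥J := J.normalizerMonoidHom ⟨n, hn⟩
    have hφ : (orderOf φ).Coprime r :=
      ho.coprime_dvd_left ((orderOf_map_dvd J.normalizerMonoidHom _).trans (by rw [Subgroup.orderOf_mk]))
    have hmap : ∀ (m : ℕ) (c : ↥J), c ∈ C → (φ ^ m) c ∈ C := fun m c hc' =>
      characteristic_iff_map_le.mp hc (φ ^ m) ⟨c, hc', rfl⟩
    have hm : ∀ c, c ∈ C ↔ φ c ∈ C := fun c => by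
      conv_lhs => rw [← characteristic_iff_comap_eq.mp hc φ]
      exact Iff.rfl
    let ψ : MulAut ↥C :=
      { toFun := fun c => ⟨φ c, (hm c).1 c.2⟩
        invFun := fun c => ⟨φ.symm c, (hm _).2 (by rw [φ.apply_symm_apply]; exact c.2)⟩
        left_inv := fun c => Subtype.ext (φ.symm_apply_apply _)
        right_inv := fun c => Subtype.ext (φ.apply_symm_apply _)
        map_mul' := fun c d => Subtype.ext (map_mul φ _ _) }
    have hψpow : ∀ (m : ℕ) (c : ↥C), (((ψ ^ m) c : ↥C) : ↥J) = (φ ^ m) (c : ↥J) := by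
      intro m
      induction m with
      | zero => intro c; rfl
      | succ m ih =>
        intro c
        rw [pow_succ', pow_succ', MulAut.mul_apply, MulAut.mul_apply, ← ih c]
        rfl
    have hψ : (orderOf ψ).Coprime r := hφ.coprime_dvd_left (orderOf_dvd_of_pow_eq_one
      (MulEquiv.ext fun c => Subtype.ext (by rw [hψpow, pow_orderOf_eq_one]; rfl)))
    have hψ1 := CfsgLib.PGroup.CoprimeFix.eq_one_of_fix (hJ.to_subgroup C) ψ hψ fun c hc1 => by
      have hc2 : (c : ↥J) ∈ hC.small := ⟨c.2, congrArg Subtype.val hc1⟩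
      exact Subtype.ext (Subtype.ext (hfix _ ⟨_, hc2, rfl⟩))
    have hφ1 := hcrit φ hφ fun c hc' => congrArg Subtype.val (DFunLike.congr_fun hψ1 (⟨c, hc'⟩ : C))
    intro j hj
    have h := congrArg Subtype.val (DFunLike.congr_fun hφ1 (⟨j, hj⟩ : J))
    have h' : n * j * n⁻¹ = j := h
    exact (mul_inv_eq_iff_eq_mul.1 h').symm

/-- An invariant `r`-subgroup moved by the three involutions gives rank three with an element
centralised by the four-group. -/
theorem exists_rank_three [Finite G] {t a : G} (S : Setting G t a) {r : ℕ} (hrp : r.Prime) (hr : r ≠ 2)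
    {J : Subgroup G} (hJ : VInv r t a J) {z : G} (hz : orderOf z = r)
    (hzV : z ∈ centralizer (four t a : Set G)) (hzJ : z ∈ centralizer (J : Set G))
    (ht : ¬ J ≤ centralizer ({t} : Set G)) (ha : ¬ J ≤ centralizer ({a} : Set G))
    (hta : ¬ J ≤ centralizer ({t * a} : Set G)) :
    ∃ E ≤ J ⊔ zpowers z, Elem r 3 E := by
  haveI := Fact.mk hrp
  obtain ⟨K, hKJ, hKexp, hK2, hKinv, hKfix⟩ := exists_class_two hr hJ.pgroup
  have hodd : Odd (Nat.card K) := hJ.odd.of_dvd_nat (card_dvd_of_le hKJ)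
  have hVK : four t a ≤ normalizer (K : Set G) := fun v hv => by
    refine mem_normalizer_iff.2 fun k => ⟨hKinv v (hJ.le_norm hv) k, fun hk => ?_⟩
    have := hKinv v⁻¹ (inv_mem (hJ.le_norm hv)) _ hk
    simpa [mul_assoc] using this
  -- each involution moves `K`
  have hmove : ∀ v ∈ four t a, orderOf v = 2 → ¬ J ≤ centralizer ({v} : Set G) →
      ∃ k ∈ K, ¬ Commute v k := by
    intro v hv hv2 hvJ
    by_contra hc
    push Not at hc
    apply hvJ
    have h := hKfix v (hJ.le_norm hv)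
      (by rw [hv2]; exact (Nat.coprime_primes Nat.prime_two hrp).2 (Ne.symm hr))
      (fun k hk => mul_inv_eq_iff_eq_mul.2 (hc k hk).eq)
    intro j hj
    exact mem_centralizer_singleton_iff.2 (mem_centralizer_iff.1 h j hj)
  -- the types
  have htype : ∀ u v : G, u ∈ four t a → v ∈ four t a →
      (∃ x ∈ K, orderOf x = r ∧ u * x * u⁻¹ = x ∧ v * x * v⁻¹ = x⁻¹) ∨
        ∀ y ∈ K, Commute u y → Commute v y := by
    intro u v hu hv
    by_cases h : ∀ y ∈ K, Commute u y → Commute v y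
    · exact Or.inr h
    left
    push Not at h
    obtain ⟨y, hy, huy, hvy⟩ := h
    have hvv : v⁻¹ = v := inv_eq_of_mul_eq_one_right (S.four_sq hv)
    have hvy' : v * y * v⁻¹ ∈ K := (mem_normalizer_iff.1 (hVK hv) y).1 hy
    set x := y⁻¹ * (v * y * v⁻¹) with hxdef
    have hxK : x ∈ K := K.mul_mem (K.inv_mem hy) hvy'
    have hx1 : x ≠ 1 := fun e => hvy (by
      rw [hxdef, inv_mul_eq_one] at e
      exact mul_inv_eq_iff_eq_mul.1 e.symm)
    refine ⟨x, hxK, orderOf_eq_prime (hKexp x hxK) hx1, mul_inv_eq_iff_eq_mul.2 (Commute.eq ?_), ?_⟩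
    · have hcv : Commute u v := S.four_comm hu hv
      exact huy.inv_right.mul_right ((hcv.mul_right huy).mul_right hcv.inv_right)
    · rw [hxdef]
      calc v * (y⁻¹ * (v * y * v⁻¹)) * v⁻¹ = (v * y⁻¹ * v) * y * (v⁻¹ * v⁻¹) := by group
        _ = (v * y⁻¹ * v⁻¹) * y := by rw [hvv, S.four_sq hv, mul_one]
        _ = (y⁻¹ * (v * y * v⁻¹))⁻¹ := by group
  -- the main step
  have main : ∀ u v : G, u ∈ four t a → v ∈ four t a → (∀ w ∈ four t a, w = 1 ∨ w = u ∨ w = v ∨ w = u * v) →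
      (∃ x ∈ K, orderOf x = r ∧ u * x * u⁻¹ = x ∧ v * x * v⁻¹ = x⁻¹) →
      (∃ y ∈ K, orderOf y = r ∧ v * y * v⁻¹ = y ∧ u * y * u⁻¹ = y⁻¹) →
      ∃ E ≤ J ⊔ zpowers z, Elem r 3 E := by
    rintro u v hu hv - ⟨x, hxK, hxo, hxu, hxv⟩ ⟨y, hyK, hyo, hyv, hyu⟩
    have hzc : ∀ w ∈ four t a, w * z * w⁻¹ = z := fun w hw =>
      mul_inv_eq_iff_eq_mul.2 (mem_centralizer_iff.1 hzV w hw)
    have hzK : ∀ k ∈ K, Commute k z := fun k hk => mem_centralizer_iff.1 hzJ k (hKJ hk)
    have hle : ∀ p q : G, p ∈ K → q ∈ K → closure ({p, q, z} : Set G) ≤ J ⊔ zpowers z := fun p q hp hq =>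
      (closure_le _).2 (by
        rintro _ (rfl | rfl | rfl)
        exacts [mem_sup_left (hKJ hp), mem_sup_left (hKJ hq), mem_sup_right (mem_zpowers _)])
    by_cases hc : Commute x y
    · obtain ⟨E, hE, hE'⟩ := rank_three_eigen hrp hr hxo hyo hz hc (hzK x hxK) (hzK y hyK) hxu hxv hyu hyv
        (Or.inl ⟨hzc u hu, hzc v hv⟩)
      exact ⟨E, hE.trans (hle x y hxK hyK), hE'⟩
    · set c := ⁅x, y⁆ with hcdef
      have hcK : c ∈ K := by
        rw [hcdef, commutatorElement_def]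
        exact K.mul_mem (K.mul_mem (K.mul_mem hxK hyK) (K.inv_mem hxK)) (K.inv_mem hyK)
      have hco : orderOf c = r := orderOf_eq_prime (hKexp c hcK) fun e =>
        hc (commutatorElement_eq_one_iff_commute.1 e)
      have hcx : Commute c x := hK2 x hxK y hyK x hxK
      have hcy : Commute c y := hK2 x hxK y hyK y hyK
      have hr1 : ⁅x, y⁻¹⁆ = c⁻¹ := by
        rw [hcdef, commutatorElement_def, commutatorElement_def]
        have := hcy.eq
        rw [hcdef, commutatorElement_def] at this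
        calc x * y⁻¹ * x⁻¹ * y⁻¹⁻¹ = y⁻¹ * (y * x * y⁻¹ * x⁻¹) * y := by group
          _ = y⁻¹ * (x * y * x⁻¹ * y⁻¹)⁻¹ * y := by group
          _ = (y⁻¹ * (x * y * x⁻¹ * y⁻¹) * y)⁻¹ := by group
          _ = _ := by rw [mul_assoc _ _ y, this, inv_mul_cancel_left]
      have hl1 : ⁅x⁻¹, y⁆ = c⁻¹ := by
        rw [hcdef, commutatorElement_def, commutatorElement_def]
        have := hcx.eq
        rw [hcdef, commutatorElement_def] at this
        calc x⁻¹ * y * x⁻¹⁻¹ * y⁻¹ = x⁻¹ * (y * x * y⁻¹ * x⁻¹) * x := by group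
          _ = (x⁻¹ * (x * y * x⁻¹ * y⁻¹) * x)⁻¹ := by group
          _ = _ := by rw [mul_assoc _ _ x, this, inv_mul_cancel_left]
      have hmap : ∀ g p q : G, g * ⁅p, q⁆ * g⁻¹ = ⁅g * p * g⁻¹, g * q * g⁻¹⁆ := fun g p q => by
        simp only [commutatorElement_def]; group
      have hcu : u * c * u⁻¹ = c⁻¹ := by rw [hcdef, hmap, hxu, hyu, ← hcdef, hr1]
      have hcv : v * c * v⁻¹ = c⁻¹ := by rw [hcdef, hmap, hxv, hyv, ← hcdef, hl1]
      have huvc : u * v * c * (u * v)⁻¹ = c := by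
        rw [show u * v * c * (u * v)⁻¹ = u * (v * c * v⁻¹) * u⁻¹ by group, hcv,
          show u * c⁻¹ * u⁻¹ = (u * c * u⁻¹)⁻¹ by group, hcu, inv_inv]
      have huvx : u * v * x * (u * v)⁻¹ = x⁻¹ := by
        rw [show u * v * x * (u * v)⁻¹ = u * (v * x * v⁻¹) * u⁻¹ by group, hxv,
          show u * x⁻¹ * u⁻¹ = (u * x * u⁻¹)⁻¹ by group, hxu]
      obtain ⟨E, hE, hE'⟩ := rank_three_eigen (t := u) (a := u * v) hrp hr hxo hco hz hcx.symm (hzK x hxK)
        (hzK c hcK) hxu huvx hcu huvc (Or.inl ⟨hzc u hu, hzc _ (mul_mem hu hv)⟩)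
      exact ⟨E, hE.trans (hle x c hxK hcK), hE'⟩
  -- only one involution with fixed points outside the centraliser of the four-group is impossible
  have one : ∀ u v w : G, u ∈ four t a → v ∈ four t a → w ∈ four t a → orderOf u = 2 →
      ¬ J ≤ centralizer ({u} : Set G) → (∀ q ∈ four t a, q ≠ 1 → q = u ∨ q = v ∨ q = w) →
      (∀ y ∈ K, Commute v y → Commute u y) → (∀ y ∈ K, Commute w y → Commute u y) → False := by
    intro u v w hu _ _ hu2 huJ hall h1 h2
    obtain ⟨k, hk, hk'⟩ := hmove u hu hu2 huJ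
    have := S.le_of_centralizers (C := centralizer ({u} : Set G)) hVK hodd fun q hq hq1 y hy hqy => by
      rcases hall q hq hq1 with rfl | rfl | rfl
      · exact mem_centralizer_singleton_iff.2 hqy.symm.eq
      · exact mem_centralizer_singleton_iff.2 (h1 y hy hqy).symm.eq
      · exact mem_centralizer_singleton_iff.2 (h2 y hy hqy).symm.eq
    exact hk' (Commute.symm (mem_centralizer_singleton_iff.1 (this hk)))
  have hfour := fun w (hw : w ∈ four t a) => S.mem_four_iff.1 hw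
  have hall : ∀ q ∈ four t a, q ≠ 1 → q = t ∨ q = a ∨ q = t * a := fun q hq hq1 =>
    (hfour q hq).resolve_left hq1
  have eta : t * (t * a) = a := by rw [← mul_assoc, S.t_mul_self, one_mul]
  have eat : a * (t * a) = t := by rw [S.comm.eq, ← mul_assoc, S.a_mul_self, one_mul]
  -- `t` and `t * a` as a pair: the third is `a`
  have pta : ∀ w ∈ four t a, w = 1 ∨ w = t ∨ w = t * a ∨ w = t * (t * a) := fun w hw => by
    rw [eta]; rcases hfour w hw with e | e | e | e <;> simp [e]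
  have pat : ∀ w ∈ four t a, w = 1 ∨ w = a ∨ w = t * a ∨ w = a * (t * a) := fun w hw => by
    rw [eat]; rcases hfour w hw with e | e | e | e <;> simp [e]
  -- fixed by `q`, inverted by one other involution, is inverted by the third as well
  have third : ∀ p q x : G, p * x * p⁻¹ = x → q * x * q⁻¹ = x⁻¹ → p * q * x * (p * q)⁻¹ = x⁻¹ := by
    intro p q x h1 h2
    rw [show p * q * x * (p * q)⁻¹ = p * (q * x * q⁻¹) * p⁻¹ by group, h2,
      show p * x⁻¹ * p⁻¹ = (p * x * p⁻¹)⁻¹ by group, h1]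
  rcases htype t a S.t_mem S.a_mem with ⟨x, hx⟩ | h1
  · rcases htype a t S.a_mem S.t_mem with ⟨y, hy⟩ | h2
    · exact main t a S.t_mem S.a_mem (fun w hw => hfour w hw) ⟨x, hx⟩ ⟨y, hy⟩
    · rcases htype (t * a) t S.ta_mem S.t_mem with ⟨w, hw⟩ | h3
      · obtain ⟨hxK, hxo, hxt, hxa⟩ := hx
        exact main t (t * a) S.t_mem S.ta_mem pta ⟨x, hxK, hxo, hxt, third t a x hxt hxa⟩ ⟨w, hw⟩
      · exact (one t a (t * a) S.t_mem S.a_mem S.ta_mem S.t2 ht hall h2 h3).elim
  · rcases htype a (t * a) S.a_mem S.ta_mem with ⟨y, hy⟩ | h2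
    · rcases htype (t * a) a S.ta_mem S.a_mem with ⟨w, hw⟩ | h3
      · exact main a (t * a) S.a_mem S.ta_mem pat ⟨y, hy⟩ ⟨w, hw⟩
      · refine (one a (t * a) t S.a_mem S.ta_mem S.t_mem S.a2 ha (fun q hq hq1 => ?_) h3 h1).elim
        rcases hall q hq hq1 with e | e | e <;> simp [e]
    · refine (one (t * a) a t S.ta_mem S.a_mem S.t_mem S.ta_two hta (fun q hq hq1 => ?_) h2
        (fun y hy h => h.mul_left (h1 y hy h))).elim
      rcases hall q hq hq1 with e | e | e <;> simp [e]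

section PGroup

variable [Finite G] {r : ℕ} [Fact r.Prime]

/-- A subgroup centralises a normal subgroup of order at most `r²` up to index `r`. -/
theorem relIndex_centralizer_le {S A : Subgroup G} (hS : IsPGroup r ↥S) (hAS : A ≤ S)
    (hSA : S ≤ normalizer (A : Set G)) (hcard : Nat.card A ≤ r ^ 2)
    {E : Subgroup G} (hE : E ≤ S) : (centralizer (A : Set G)).relIndex E ≤ r := by
  set A' := A.subgroupOf S with hA'
  haveI : A'.Normal := (normal_subgroupOf_iff_le_normalizer hAS).2 hSA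
  by_cases htriv : A' ≤ ⊥
  · have hA1 : A = ⊥ := by
      refine eq_bot_iff.2 fun x hx => mem_bot.2 ?_
      exact congrArg Subtype.val (mem_bot.1 (htriv (x := (⟨x, hAS hx⟩ : S)) hx))
    rw [hA1, relIndex_eq_one.2 fun e _ => mem_centralizer_iff.2 fun b hb => by
      rw [mem_bot.1 hb, one_mul, mul_one]]
    exact (Fact.out : r.Prime).one_le
  obtain ⟨a1, ha1, ha1n, ha1r, ha1c⟩ := CfsgLib.Fusion.NormalRankTwo.exists_central_of_lt hS htriv
  set L : Subgroup S := ⊥ ⊔ zpowers a1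
  haveI hLn : L.Normal := CfsgLib.Fusion.NormalRankTwo.sup_zpowers_normal ha1c
  have hLc : Nat.card L = r := by
    rw [CfsgLib.Fusion.NormalRankTwo.sup_zpowers_card ha1n ha1r, card_bot, mul_one]
  have hcen : ∀ g : S, Commute g a1 := fun g => commutatorElement_eq_one_iff_commute.1 (mem_bot.1 (ha1c g))
  have hLcen : ∀ l ∈ L, ∀ g : S, Commute g l := by
    intro l hl g
    rw [show L = zpowers a1 from bot_sup_eq _] at hl
    obtain ⟨k, rfl⟩ := mem_zpowers_iff.1 hl
    exact (hcen g).zpow_right k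
  have hcardA' : Nat.card A' = Nat.card A := Nat.card_congr (subgroupOfEquivOfLe hAS).toEquiv
  by_cases hAL : A' ≤ L
  · rw [relIndex_eq_one.2 fun e he => mem_centralizer_iff.2 fun b hb =>
      (congrArg Subtype.val (hLcen ⟨b, hAS hb⟩ (hAL hb) ⟨e, hE he⟩).eq).symm]
    exact (Fact.out : r.Prime).one_le
  obtain ⟨a2, ha2, ha2n, ha2r, ha2c⟩ := CfsgLib.Fusion.NormalRankTwo.exists_central_of_lt hS hAL
  have hLA : L ≤ A' := sup_le bot_le (zpowers_le.2 ha1)
  have hgen : L ⊔ zpowers a2 = A' := eq_of_le_of_card_ge (sup_le hLA (zpowers_le.2 ha2)) (by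
    rw [CfsgLib.Fusion.NormalRankTwo.sup_zpowers_card ha2n ha2r, hLc, hcardA', ← pow_two]
    exact hcard)
  let f : E →* L :=
    { toFun := fun e => ⟨⁅(⟨e, hE e.2⟩ : S), a2⁆, ha2c _⟩
      map_one' := Subtype.ext (commutatorElement_eq_one_iff_commute.2 (Commute.one_left a2))
      map_mul' := fun e e' => Subtype.ext (by
        show ⁅(⟨(e : G) * e', hE (e * e').2⟩ : S), a2⁆ =
          ⁅(⟨e, hE e.2⟩ : S), a2⁆ * ⁅(⟨e', hE e'.2⟩ : S), a2⁆
        set p : S := ⟨e, hE e.2⟩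
        set q : S := ⟨e', hE e'.2⟩
        change ⁅p * q, a2⁆ = ⁅p, a2⁆ * ⁅q, a2⁆
        have hc1 := hLcen _ (ha2c q) p
        have hc2 := hLcen _ (ha2c q) ⁅p, a2⁆
        rw [commutatorElement_def, show p * q * a2 * (p * q)⁻¹ * a2⁻¹ =
          p * ⁅q, a2⁆ * a2 * p⁻¹ * a2⁻¹ by rw [commutatorElement_def]; group, hc1.eq]
        rw [show ⁅q, a2⁆ * p * a2 * p⁻¹ * a2⁻¹ = ⁅q, a2⁆ * ⁅p, a2⁆ by
          rw [commutatorElement_def p a2]; group, ← hc2.eq]) }
  have hker : f.ker.map E.subtype ≤ centralizer (A : Set G) := by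
    rintro _ ⟨e, he, rfl⟩
    set p : S := ⟨e, hE e.2⟩
    have hp : Commute p a2 := commutatorElement_eq_one_iff_commute.1 (congrArg Subtype.val (MonoidHom.mem_ker.1 he))
    have hall : L ⊔ zpowers a2 ≤ centralizer ({p} : Set S) := sup_le
      (fun l hl => mem_centralizer_singleton_iff.2 (hLcen l hl p).symm.eq)
      (zpowers_le.2 (mem_centralizer_singleton_iff.2 hp.symm.eq))
    rw [hgen] at hall
    exact mem_centralizer_iff.2 fun b hb =>
      congrArg Subtype.val (mem_centralizer_singleton_iff.1 (hall (x := ⟨b, hAS hb⟩) hb))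
  calc (centralizer (A : Set G)).relIndex E ≤ (f.ker.map E.subtype).relIndex E :=
        relIndex_le_of_le_left hker
          (by rw [relIndex, subgroupOf, comap_map_eq_self_of_injective E.subtype_injective]
              exact index_ne_zero_of_finite)
    _ = Nat.card f.range := by
        rw [relIndex, subgroupOf, comap_map_eq_self_of_injective E.subtype_injective, index_ker]
    _ ≤ r := hLc ▸ card_le_card_group f.range

/-- Inside an elementary abelian subgroup of order `r³` the centraliser of a small normalised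
subgroup has order at least `r²`. -/
theorem elem_two_inf_centralizer {E Z : Subgroup G} (hE : Elem r 3 E)
    (hZ : Cfsg.IsElementaryAbelian r Z) (hZc : Nat.card Z ≤ r ^ 2)
    (hn : E ≤ normalizer (Z : Set G)) : Elem r 2 (E ⊓ centralizer (Z : Set G)) := by
  obtain ⟨⟨hEab, hEexp⟩, hEc⟩ := hE
  haveI := hEab
  refine ⟨⟨⟨⟨fun p q => Subtype.ext (congrArg Subtype.val (mul_comm' (⟨p, p.2.1⟩ : E) ⟨q, q.2.1⟩) :)⟩⟩,
    fun p hp => hEexp p hp.1⟩, ?_⟩
  have hEp : IsPGroup r ↥E := fun p => ⟨1, Subtype.ext (by simpa using hEexp p p.2)⟩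
  have hZp : IsPGroup r ↥Z := fun p => ⟨1, Subtype.ext (by simpa using hZ.2 p p.2)⟩
  have hS := hEp.to_sup_of_normal_right' hZp hn
  have h := relIndex_centralizer_le hS le_sup_right (sup_le hn le_normalizer) hZc (E := E) le_sup_left
  have h2 : Nat.card ↥(E ⊓ centralizer (Z : Set G)) * (centralizer (Z : Set G)).relIndex E = Nat.card E := by
    have := ((centralizer (Z : Set G)).subgroupOf E).card_mul_index
    rwa [← card_map_of_injective E.subtype_injective, subgroupOf_map_subtype, inf_comm] at this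
  have h3 := Nat.mul_le_mul_left (Nat.card ↥(E ⊓ centralizer (Z : Set G))) h
  rw [h2] at h3
  have h4 : r * r ^ 2 ≤ r * Nat.card ↥(E ⊓ centralizer (Z : Set G)) := by
    rw [← pow_succ', mul_comm r]
    exact hEc.trans h3
  exact Nat.le_of_mul_le_mul_left h4 (Fact.out : r.Prime).pos

/-- The hub: a normal elementary abelian subgroup of order `r²` linked to every elementary abelian
subgroup of order `r³`. -/
theorem exists_hub {S : Subgroup G} (hr : r ≠ 2) (hS : IsPGroup r ↥S) (h : ∃ E ≤ S, Elem r 3 E) :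
    ∃ A0 ≤ S, Cfsg.IsElementaryAbelian r A0 ∧ Nat.card A0 = r ^ 2 ∧ S ≤ normalizer (A0 : Set G) ∧
      ∀ E ≤ S, Elem r 3 E → ∃ E1 ≤ S, Elem r 3 E1 ∧ A0 ≤ E1 ∧ ∃ B, B ≤ E ⊓ E1 ∧ Elem r 2 B := by
  have hrp : r.Prime := Fact.out
  obtain ⟨E0, hE0, ⟨-, hE0exp⟩, hE0c⟩ := h
  have hnc : ¬ IsCyclic (⊤ : Subgroup S) := fun hc => by
    haveI := hc
    haveI : IsCyclic S := Subgroup.topEquiv.isCyclic.1 hc
    haveI : IsCyclic E0 := (subgroupOfEquivOfLe hE0).isCyclic.1 inferInstance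
    obtain ⟨g, hg⟩ := IsCyclic.exists_ofOrder_eq_natCard (α := E0)
    have h1 : orderOf g ∣ r := orderOf_dvd_of_pow_eq_one (Subtype.ext (by simpa using hE0exp g g.2))
    have h2 := Nat.le_of_dvd hrp.pos h1
    rw [hg] at h2
    have h3 : r ^ 1 < r ^ 3 := Nat.pow_lt_pow_right hrp.one_lt (by norm_num)
    rw [pow_one] at h3
    omega
  obtain ⟨A', -, hA'n, ⟨hA'ab, hA'exp⟩, hA'c⟩ :=
    CfsgLib.Fusion.NormalRankTwo.exists_normal_rankTwo (R := S) hS hr hnc
  set A0 := A'.map S.subtype with hA0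
  have hA0S : A0 ≤ S := map_subtype_le _
  have hnorm : S ≤ normalizer (A0 : Set G) :=
    (normal_subgroupOf_iff_le_normalizer hA0S).1 (by
      rw [hA0, subgroupOf, comap_map_eq_self_of_injective S.subtype_injective]; exact hA'n)
  have hA0el : Cfsg.IsElementaryAbelian r A0 := by
    haveI := hA'ab
    refine ⟨map_isMulCommutative A' S.subtype, ?_⟩
    rintro _ ⟨p, hp, rfl⟩
    rw [← map_pow, hA'exp p hp, map_one]
  have hA0c : Nat.card A0 = r ^ 2 := by rw [hA0, card_map_of_injective S.subtype_injective, hA'c]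
  refine ⟨A0, hA0S, hA0el, hA0c, hnorm, fun E hES hE => ?_⟩
  have hB := elem_two_inf_centralizer hE hA0el hA0c.le (hES.trans hnorm)
  set B := E ⊓ centralizer (A0 : Set G) with hBdef
  by_cases hle : A0 ≤ E
  · exact ⟨E, hES, hE, hle, B, le_inf inf_le_left inf_le_left, hB⟩
  refine ⟨B ⊔ A0, sup_le (inf_le_left.trans hES) hA0S, ⟨?_, ?_⟩, le_sup_right, B,
    le_inf inf_le_left le_sup_left, hB⟩
  · obtain ⟨⟨hBab, hBexp⟩, -⟩ := hB
    obtain ⟨hAab, hAexp⟩ := hA0el
    haveI := hBab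
    haveI := hAab
    rw [← closure_eq B, ← closure_eq A0, ← Subgroup.closure_union]
    refine elem_closure ?_ ?_
    · rintro p (hp | hp) q (hq | hq)
      · exact congrArg Subtype.val (mul_comm' (⟨p, hp⟩ : B) ⟨q, hq⟩)
      · exact (mem_centralizer_iff.1 hp.2 q hq).symm
      · exact mem_centralizer_iff.1 hq.2 p hp
      · exact congrArg Subtype.val (mul_comm' (⟨p, hp⟩ : A0) ⟨q, hq⟩)
    · rintro p (hp | hp)
      exacts [hBexp p hp, hAexp p hp]
  · obtain ⟨k, hk⟩ := IsPGroup.iff_card.1 (hS.to_le (sup_le (inf_le_left.trans hES) hA0S : B ⊔ A0 ≤ S))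
    have h2k : r ^ 2 < r ^ k := by
      rw [← hk]
      by_contra hlt
      push Not at hlt
      have : B = B ⊔ A0 := eq_of_le_of_card_ge le_sup_left (hlt.trans hB.2)
      exact hle ((le_sup_right.trans this.ge).trans inf_le_left)
    rw [hk]
    exact Nat.pow_le_pow_right hrp.pos ((Nat.pow_lt_pow_iff_right hrp.one_lt).1 h2k)

end PGroup

end CfsgLib.GWKlein
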