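import Cfsg.Agent.Lib.GWKlein.A.Tools
import Cfsg.Agent.Lib.GWKlein.A.Rank
import Cfsg.Agent.Lib.Solvable.FrattiniFitting
import Cfsg.Agent.Lib.Components.Constrained

/-!
# Elementary subgroups for the signaliser completion

`omegaC r K` is the subgroup of central elements of exponent `r` of `K`.  In the situation of a
maximal subgroup over `C(t)` one finds an elementary subgroup of rank three in `I` and a four-group
sized `r`-subgroup of `R` centralising `omegaC r F` each element of which lies in such a subgroup.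
-/

set_option autoImplicit false
set_option linter.unusedSectionVars false
set_option linter.style.haveILetI false

namespace CfsgLib.GWKlein

open Subgroup
open scoped Pointwise

variable {G : Type*} [Group G]

/-- The central elements of `K` of exponent `r`. -/
def omegaC (r : ℕ) (K : Subgroup G) : Subgroup G where
  carrier := {x | x ∈ K ∧ x ^ r = 1 ∧ ∀ y ∈ K, Commute x y}
  one_mem' := ⟨one_mem _, one_pow _, fun _ _ => Commute.one_left _⟩
  mul_mem' := fun {x y} hx hy => ⟨mul_mem hx.1 hy.1,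
    by rw [(hx.2.2 y hy.1).mul_pow, hx.2.1, hy.2.1, one_mul],
    fun z hz => (hx.2.2 z hz).mul_left (hy.2.2 z hz)⟩
  inv_mem' := fun {x} hx => ⟨inv_mem hx.1, by rw [inv_pow, hx.2.1, inv_one],
    fun z hz => (hx.2.2 z hz).inv_left⟩

theorem omegaC_le (r : ℕ) (K : Subgroup G) : omegaC r K ≤ K := fun _ hx => hx.1

theorem le_centralizer_omegaC (r : ℕ) (K : Subgroup G) :
    K ≤ centralizer (omegaC r K : Set G) := fun y hy =>
  mem_centralizer_iff.2 fun _ hx => (hx.2.2 y hy).eq

theorem elementary_omegaC (r : ℕ) (K : Subgroup G) :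
    Cfsg.IsElementaryAbelian r (omegaC r K) :=
  ⟨⟨⟨fun x y => Subtype.ext (x.2.2.2 y y.2.1).eq⟩⟩, fun _ hx => hx.2.1⟩

theorem normalizer_le_normalizer_omegaC [Finite G] (r : ℕ) (K : Subgroup G) :
    normalizer (K : Set G) ≤ normalizer (omegaC r K : Set G) := fun g hg => by
  refine mem_normalizer_iff_map_conj_eq.2 (Subgroup.eq_of_le_of_card_ge ?_
    (card_map_of_injective (MulAut.conj g).injective).ge)
  rintro _ ⟨x, ⟨hxK, hxr, hxc⟩, rfl⟩
  refine ⟨conj_mem_of_mem_normalizer hg hxK, by rw [← map_pow, hxr, map_one], fun y hy => ?_⟩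
  have hy' : g⁻¹ * y * g ∈ K := by
    have := conj_mem_of_mem_normalizer (inv_mem hg) hy
    rwa [inv_inv] at this
  show g * x * g⁻¹ * y = y * (g * x * g⁻¹)
  calc g * x * g⁻¹ * y = g * (x * (g⁻¹ * y * g)) * g⁻¹ := by group
    _ = g * (g⁻¹ * y * g * x) * g⁻¹ := by rw [(hxc _ hy').eq]
    _ = y * (g * x * g⁻¹) := by group

theorem orderOf_of_pow_eq_one {r : ℕ} [Fact r.Prime] {x : G} (hx : x ^ r = 1) (hx1 : x ≠ 1) :
    orderOf x = r :=
  orderOf_eq_prime hx hx1

theorem isPGroup_of_elementary {r : ℕ} {E : Subgroup G} (hE : Cfsg.IsElementaryAbelian r E) :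
    IsPGroup r ↥E := fun p => ⟨1, Subtype.ext (by simpa using hE.2 p p.2)⟩

section Finite

variable [Finite G] {r : ℕ} [hrp : Fact r.Prime]

theorem omegaC_ne_bot {K : Subgroup G} (hK : IsPGroup r K) (hne : K ≠ ⊥) : omegaC r K ≠ ⊥ := by
  haveI : Nontrivial K := (Subgroup.nontrivial_iff_ne_bot K).2 hne
  haveI := hK.center_nontrivial
  obtain ⟨n, hn⟩ := IsPGroup.iff_card.1 (hK.to_subgroup (center K))
  have hd : r ∣ Nat.card (center K) := by
    rw [hn]
    refine dvd_pow_self r fun h0 => ?_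
    rw [h0, pow_zero] at hn
    exact (Finite.one_lt_card (α := center K)).ne' hn
  obtain ⟨z, hz⟩ := exists_prime_orderOf_dvd_card' (G := center K) r hd
  intro e
  have hmem : ((z : K) : G) ∈ omegaC r K := ⟨(z : K).2, by
      rw [← Subgroup.coe_pow, ← Subgroup.coe_pow, ← hz, pow_orderOf_eq_one]; rfl,
    fun y hy => congrArg Subtype.val (mem_center_iff.1 z.2 ⟨y, hy⟩).symm⟩
  rw [e, mem_bot] at hmem
  rw [show z = 1 from Subtype.ext (Subtype.ext hmem), orderOf_one] at hz
  exact hrp.out.ne_one hz.symm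

/-- An `r`-group acting on a nontrivial `r`-group fixes a nontrivial element. -/
theorem inf_centralizer_ne_bot {A Q : Subgroup G} (hA : IsPGroup r A) (hQ : IsPGroup r Q)
    (hn : Q ≤ normalizer (A : Set G)) (hne : A ≠ ⊥) : A ⊓ centralizer (Q : Set G) ≠ ⊥ := by
  set P := A ⊔ Q
  have hP : IsPGroup r P := hA.to_sup_of_normal_left' hQ hn
  haveI := hP.isNilpotent
  haveI : (A.subgroupOf P).Normal :=
    (normal_subgroupOf_iff_le_normalizer le_sup_left).2 (sup_le le_normalizer hn)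
  have h := CfsgLib.Solvable.FrattiniFitting.inf_center_ne_bot (A.subgroupOf P) (fun e => hne (by
    rw [← inf_eq_left.2 (le_sup_left : A ≤ P), ← subgroupOf_map_subtype, e, Subgroup.map_bot]))
  intro e
  apply h
  rw [eq_bot_iff]
  intro x hx
  have : (x : G) ∈ A ⊓ centralizer (Q : Set G) := ⟨hx.1, mem_centralizer_iff.2 fun q hq =>
    congrArg Subtype.val (mem_center_iff.1 hx.2 ⟨q, (le_sup_right : Q ≤ P) hq⟩)⟩
  rw [e, mem_bot] at this
  exact mem_bot.2 (Subtype.ext this)

theorem exists_order_inverted {K : Subgroup G} (hK : IsPGroup r K) {v : G} (hv : v * v = 1)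
    (hn : v ∈ normalizer (K : Set G)) (h : ¬ K ≤ centralizer ({v} : Set G)) :
    ∃ x ∈ K, orderOf x = r ∧ v * x * v⁻¹ = x⁻¹ := by
  obtain ⟨y, hy, hy1, hyi⟩ := exists_inverted_of_not_le hv hn h
  obtain ⟨n, hn'⟩ := IsPGroup.iff_orderOf.1 hK ⟨y, hy⟩
  rw [Subgroup.orderOf_mk] at hn'
  have hn0 : n ≠ 0 := fun h0 => hy1 (orderOf_eq_one_iff.1 (by rw [hn', h0, pow_zero]))
  refine ⟨y ^ r ^ (n - 1), pow_mem hy _, ?_, ?_⟩
  · rw [orderOf_pow_of_dvd (pow_ne_zero _ hrp.out.ne_zero)
      (hn' ▸ Nat.pow_dvd_pow r (n.sub_le 1)), hn', Nat.pow_div (n.sub_le 1) hrp.out.pos,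
      show n - (n - 1) = 1 by omega, pow_one]
  · rw [← conj_pow, hyi, inv_pow]

variable {t a : G}

theorem Setting.mem_inf_of_inverted (S : Setting G t a) {I S0 : Subgroup G}
    (hIodd : Odd (Nat.card I)) (hS : Odd (Nat.card S0)) (hIS : S0 ≤ normalizer (I : Set G))
    (hIt : t ∈ normalizer (I : Set G)) (hgen : S0 ≤ I ⊔ (S0 ⊓ centralizer ({t} : Set G))) {y : G}
    (hy : y ∈ S0) (hyi : t * y * t⁻¹ = y⁻¹) : y ∈ I := by
  have hy' : y ∈ ((I : Set G) * ((S0 ⊓ centralizer ({t} : Set G) : Subgroup G) : Set G)) := by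
    rw [← coe_mul_of_right_le_normalizer_left I _ (inf_le_left.trans hIS)]
    exact hgen hy
  obtain ⟨i, hi, c, hc, rfl⟩ := hy'
  have hcc : t * c * t⁻¹ = c := mul_inv_eq_iff_eq_mul.2
    (mem_centralizer_singleton'.1 (mem_inf.1 hc).2).eq
  have e : i * c * (i * c) = i * (t * i * t⁻¹)⁻¹ := by
    have h1 : t * (i * c) * t⁻¹ = t * i * t⁻¹ * c := by
      rw [show t * (i * c) * t⁻¹ = t * i * t⁻¹ * (t * c * t⁻¹) by group, hcc]
    have h2 : i * c = ((t * i * t⁻¹) * c)⁻¹ := by rw [← h1, hyi, inv_inv]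
    nth_rw 2 [h2]
    group
  have h2I : i * c * (i * c) ∈ I :=
    e ▸ mul_mem hi (inv_mem (conj_mem_of_mem_normalizer hIt hi))
  obtain ⟨k, hk⟩ := odd_orderOf hS hy
  have h3 : i * c = (((i * c) * (i * c)) ^ k)⁻¹ := by
    refine eq_inv_of_mul_eq_one_left ?_
    rw [← pow_two, ← pow_mul, ← pow_succ', ← hk, pow_orderOf_eq_one]
  show i * c ∈ I
  rw [h3]
  exact inv_mem (pow_mem h2I k)

/-- The choice of the elementary subgroups. -/
theorem Setting.pick (S : Setting G t a) (hr : r ≠ 2) {S0 I R F : Subgroup G}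
    (hS0 : VInv r t a S0) (hI : VInv r t a I) (hIS : I ≤ S0) (hn : S0 ≤ normalizer (I : Set G))
    {g : G} (hg : Rot t a g) (hgI : g ∈ normalizer (I : Set G))
    (htypes : ∀ v ∈ four t a, v ≠ 1 →
      ¬ I ⊓ centralizer ({v} : Set G) ≤ centralizer (four t a : Set G))
    (hgen : S0 ≤ I ⊔ (S0 ⊓ centralizer ({t} : Set G)))
    (hT : S0 ⊓ centralizer ({t} : Set G) ≤ R) (hR : VInv r t a R) (hRS : R ≤ S0)
    (hF : VInv r t a F) (hFR : F ≤ R) (hRF : R ≤ normalizer (F : Set G))
    (hFt : ¬ F ≤ centralizer ({t} : Set G)) :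
    (∃ E ≤ I, Elem r 3 E) ∧ ∃ E0 : Subgroup G, E0 ≤ R ∧ Elem r 2 E0 ∧
      E0 ≤ centralizer (omegaC r F : Set G) ∧ ∀ e ∈ E0, ∃ E ≤ S0, Elem r 3 E ∧ e ∈ E := by
  have hrpr := hrp.out
  set U := omegaC r I with hU
  set T := S0 ⊓ centralizer ({t} : Set G) with hTdef
  have hUI : U ≤ I := omegaC_le r I
  have hVU : four t a ≤ normalizer (U : Set G) :=
    hI.le_norm.trans (normalizer_le_normalizer_omegaC r I)
  have hgU : g ∈ normalizer (U : Set G) := normalizer_le_normalizer_omegaC r I hgI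
  have hIne : I ≠ ⊥ := fun e => htypes t S.t_mem S.t_ne_one (by
    rw [e, bot_inf_eq]; exact bot_le)
  have hUne : U ≠ ⊥ := omegaC_ne_bot hI.pgroup hIne
  have hUt : U ⊓ centralizer ({t} : Set G) ≠ ⊥ := by
    intro e
    have hback : ∀ y ∈ U, ∀ w : G, ∀ h : G, h ∈ normalizer (U : Set G) → h * w * h⁻¹ = t →
        Commute w y → y = 1 := by
      intro y hy w h hh hw hc
      have : h * y * h⁻¹ ∈ U ⊓ centralizer ({t} : Set G) :=
        ⟨conj_mem_of_mem_normalizer hh hy, mem_centralizer_singleton'.2 (by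
          rw [← hw]; exact (Commute.map hc (MulAut.conj h).toMonoidHom : _))⟩
      rw [e, mem_bot] at this
      exact conj_eq_one_iff.1 this
    refine hUne (le_bot_iff.1 (S.le_of_centralizers hVU (hI.odd.of_dvd_nat (card_dvd_of_le hUI))
      fun v hv hv1 y hy hc => mem_bot.2 ?_))
    rcases S.mem_four_iff.1 hv with rfl | rfl | rfl | rfl
    · exact absurd rfl hv1
    · exact hback y hy v 1 (one_mem _) (by group) hc
    · refine hback y hy v g⁻¹ (inv_mem hgU) ?_ hc
      rw [← hg.1]; group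
    · exact hback y hy _ g hgU (hg.map_ta S) hc
  have hVT : four t a ≤ normalizer (T : Set G) :=
    (le_inf hS0.le_norm ((S.four_le_centralizer S.t_mem).trans le_normalizer)).trans
      inf_normalizer_le_normalizer_inf
  set X := U ⊓ centralizer ({t} : Set G) ⊓ centralizer (T : Set G) with hX
  have hXne : X ≠ ⊥ := inf_centralizer_ne_bot (hI.pgroup.to_le (inf_le_left.trans hUI))
    (hS0.pgroup.to_le inf_le_left)
    ((le_inf ((inf_le_left.trans hn).trans (normalizer_le_normalizer_omegaC r I))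
      (inf_le_right.trans le_normalizer)).trans inf_normalizer_le_normalizer_inf) hUt
  have hVX : four t a ≤ normalizer (X : Set G) :=
    (le_inf ((le_inf hVU ((S.four_le_centralizer S.t_mem).trans le_normalizer)).trans
      inf_normalizer_le_normalizer_inf)
      (hVT.trans CfsgLib.Components.normalizer_le_normalizer_centralizer)).trans
      inf_normalizer_le_normalizer_inf
  -- elements of `X` are central in `S0`
  have hXS : ∀ u ∈ X, ∀ y ∈ S0, Commute u y := fun u hu y hy => by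
    refine (mem_centralizer_singleton'.1 ((sup_le ?_ ?_ : I ⊔ T ≤ centralizer {u}) (hgen hy)))
    · exact fun i hi => mem_centralizer_singleton'.2 (hu.1.1.2.2 i hi)
    · exact fun c hc => mem_centralizer_singleton'.2 (mem_centralizer_iff.1 hu.2 c hc).symm
  have hFS : F ≤ S0 := hFR.trans hRS
  have hIn := hI.le_norm S.t_mem
  by_cases hXa : X ≤ centralizer ({a} : Set G)
  · obtain ⟨z, hzX, hz1⟩ : ∃ z ∈ X, z ≠ 1 := by
      by_contra hc
      push Not at hc
      exact hXne (eq_bot_iff.2 fun x hx => mem_bot.2 (hc x hx))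
    have hzU : z ∈ U := hzX.1.1
    have hzr : orderOf z = r := orderOf_of_pow_eq_one hzU.2.1 hz1
    have hzV : z ∈ centralizer (four t a : Set G) :=
      S.commute_four (mem_centralizer_singleton'.1 hzX.1.2) (mem_centralizer_singleton'.1 (hXa hzX))
    set J := R ⊓ I
    have hJ : VInv r t a J := S.vinv_inf hR hI.le_norm
    have hxJ : ∀ x ∈ I ⊓ centralizer ({t} : Set G), x ∈ J := fun x hx =>
      ⟨hT ⟨hIS hx.1, hx.2⟩, hx.1⟩
    have h1 : ¬ J ≤ centralizer ({t} : Set G) := by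
      obtain ⟨y, hy, hy1, hyi⟩ := exists_inverted_of_not_le S.t_mul_self (hF.le_norm S.t_mem) hFt
      exact fun hle => hy1 (eq_one_of_odd_inverted hR.odd (hFR hy) (mem_centralizer_singleton'.1
        (hle ⟨hFR hy, S.mem_inf_of_inverted hI.odd hS0.odd hn hIn hgen (hFS hy) hyi⟩)) hyi)
    obtain ⟨x, hx, hxV⟩ := SetLike.not_le_iff_exists.1 (htypes t S.t_mem S.t_ne_one)
    have h2 : ¬ J ≤ centralizer ({a} : Set G) := fun hle =>
      hxV (S.commute_four (mem_centralizer_singleton'.1 hx.2)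
        (mem_centralizer_singleton'.1 (hle (hxJ x hx))))
    have h3 : ¬ J ≤ centralizer ({t * a} : Set G) := fun hle => by
      have e := (mem_centralizer_singleton'.1 hx.2).mul_left
        (mem_centralizer_singleton'.1 (hle (hxJ x hx)))
      rw [← mul_assoc, S.t_mul_self, one_mul] at e
      exact hxV (S.commute_four (mem_centralizer_singleton'.1 hx.2) e)
    obtain ⟨E, hE, hEe⟩ := exists_rank_three S hrpr hr hJ hzr hzV
      (mem_centralizer_iff.2 fun j hj => (hzU.2.2 j hj.2).eq.symm) h1 h2 h3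
    have hEI : E ≤ I := hE.trans (sup_le inf_le_right (zpowers_le.2 (hUI hzU)))
    have hER : E ≤ R := hE.trans (sup_le inf_le_left
      (zpowers_le.2 (hT ⟨hIS (hUI hzU), hzX.1.2⟩)))
    refine ⟨⟨E, hEI, hEe⟩, ?_⟩
    set Z := omegaC r F
    by_cases hZ : r ^ 3 ≤ Nat.card Z
    · exact ⟨Z, (omegaC_le r F).trans hFR,
        ⟨elementary_omegaC r F, le_trans (Nat.pow_le_pow_right hrpr.pos (by norm_num)) hZ⟩,
        (omegaC_le r F).trans (le_centralizer_omegaC r F),
        fun e he => ⟨Z, (omegaC_le r F).trans hFS, ⟨elementary_omegaC r F, hZ⟩, he⟩⟩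
    · have hZ2 : Nat.card Z ≤ r ^ 2 := by
        obtain ⟨n, hn'⟩ := IsPGroup.iff_card.1 (isPGroup_of_elementary (elementary_omegaC r F))
        rw [hn'] at hZ ⊢
        refine Nat.pow_le_pow_right hrpr.pos ?_
        by_contra hlt
        exact hZ (Nat.pow_le_pow_right hrpr.pos (by omega))
      exact ⟨E ⊓ centralizer (Z : Set G), inf_le_left.trans hER,
        elem_two_inf_centralizer hEe (elementary_omegaC r F) hZ2
          ((hER.trans hRF).trans (normalizer_le_normalizer_omegaC r F)),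
        inf_le_right, fun e he => ⟨E, hEI.trans hIS, hEe, he.1⟩⟩
  · obtain ⟨u, huX, hu1, hua⟩ := exists_inverted_of_not_le S.a_mul_self (hVX S.a_mem) hXa
    have huU : u ∈ U := huX.1.1
    have hur : orderOf u = r := orderOf_of_pow_eq_one huU.2.1 hu1
    have hut : t * u * t⁻¹ = u :=
      mul_inv_eq_iff_eq_mul.2 (mem_centralizer_singleton'.1 huX.1.2).eq
    set y := g * u * g⁻¹ with hy
    set w := g * y * g⁻¹ with hw
    have hyU : y ∈ U := conj_mem_of_mem_normalizer hgU huU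
    have hwU : w ∈ U := conj_mem_of_mem_normalizer hgU hyU
    have htau : t * a * u * (t * a)⁻¹ = u⁻¹ := by
      rw [show t * a * u * (t * a)⁻¹ = t * (a * u * a⁻¹) * t⁻¹ by group, hua, ← conj_inv, hut]
    have hyt : t * y * t⁻¹ = y⁻¹ := by
      conv_lhs => rw [← hg.map_ta S, hy]
      rw [show g * (t * a) * g⁻¹ * (g * u * g⁻¹) * (g * (t * a) * g⁻¹)⁻¹ =
        g * (t * a * u * (t * a)⁻¹) * g⁻¹ by group, htau, hy]
      group
    have hya : a * y * a⁻¹ = y := by
      conv_lhs => rw [← hg.1, hy]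
      rw [show g * t * g⁻¹ * (g * u * g⁻¹) * (g * t * g⁻¹)⁻¹ =
        g * (t * u * t⁻¹) * g⁻¹ by group, hut]
    have htay : t * a * y * (t * a)⁻¹ = y⁻¹ := by
      rw [show t * a * y * (t * a)⁻¹ = t * (a * y * a⁻¹) * t⁻¹ by group, hya, hyt]
    have hwt : t * w * t⁻¹ = w⁻¹ := by
      conv_lhs => rw [← hg.map_ta S, hw]
      rw [show g * (t * a) * g⁻¹ * (g * y * g⁻¹) * (g * (t * a) * g⁻¹)⁻¹ =
        g * (t * a * y * (t * a)⁻¹) * g⁻¹ by group, htay, hw]
      group
    have hwa : a * w * a⁻¹ = w⁻¹ := by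
      conv_lhs => rw [← hg.1, hw]
      rw [show g * t * g⁻¹ * (g * y * g⁻¹) * (g * t * g⁻¹)⁻¹ =
        g * (t * y * t⁻¹) * g⁻¹ by group, hyt, hw]
      group
    have hord : ∀ q : G, orderOf (g * q * g⁻¹) = orderOf q := fun q =>
      orderOf_injective (MulAut.conj g).toMonoidHom (MulAut.conj g).injective q
    obtain ⟨E₁, hE₁, hE₁e⟩ := rank_three_of_types S hrpr hr hur ((hord u).trans hur)
      ((hord y).trans ((hord u).trans hur)) (huU.2.2 y hyU.1) (huU.2.2 w hwU.1)
      (hyU.2.2 w hwU.1) hut hua hyt hya (Or.inr ⟨hwt, hwa⟩)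
    have hE₁U : E₁ ≤ U := hE₁.trans ((closure_le _).2 (by
      rintro q (rfl | rfl | rfl) <;> assumption))
    refine ⟨⟨E₁, hE₁U.trans hUI, hE₁e⟩, ?_⟩
    obtain ⟨x, hx, hxr, hxi⟩ :=
      exists_order_inverted hF.pgroup S.t_mul_self (hF.le_norm S.t_mem) hFt
    have hxI : x ∈ I := S.mem_inf_of_inverted hI.odd hS0.odd hn hIn hgen (hFS hx) hxi
    set E := closure ((U : Set G) ∪ {x}) with hE
    have hxrp : x ^ r = 1 := hxr ▸ pow_orderOf_eq_one x
    have hEe : Elem r 3 E := by
      refine ⟨elem_closure ?_ ?_, hE₁e.2.trans (card_le_of_le (hE₁U.trans fun q hq =>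
        subset_closure (Or.inl hq)))⟩
      · rintro p (hp | rfl) q (hq | rfl)
        exacts [(hp.2.2 q hq.1).eq, (hp.2.2 q hxI).eq, (hq.2.2 p hxI).eq.symm, rfl]
      · rintro p (hp | rfl)
        exacts [hp.2.1, hxrp]
    have hES : E ≤ S0 := (closure_le _).2 (by
      rintro p (hp | rfl)
      exacts [hIS (hUI hp), hIS hxI])
    set E0 := closure ({u, x} : Set G) with hE0
    have hE0E : E0 ≤ E := (closure_le _).2 (by
      rintro p (rfl | rfl)
      exacts [subset_closure (Or.inl huU), subset_closure (Or.inr rfl)])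
    refine ⟨E0, (closure_le _).2 ?_, ⟨⟨⟨⟨fun p q => Subtype.ext (congrArg Subtype.val
      (hEe.1.1.is_comm.comm ⟨p, hE0E p.2⟩ ⟨q, hE0E q.2⟩) :)⟩⟩, fun p hp => hEe.1.2 p (hE0E hp)⟩,
      ?_⟩, (closure_le _).2 ?_, fun e he => ⟨E, hES, hEe, hE0E he⟩⟩
    · rintro p (rfl | rfl)
      exacts [hT ⟨hIS (hUI huU), huX.1.2⟩, hFR hx]
    · have hxu : x ∉ zpowers u := fun hxu => by
        have hxt : Commute t x := by
          obtain ⟨i, rfl⟩ := mem_zpowers_iff.1 hxu
          exact (mem_centralizer_singleton'.1 huX.1.2).zpow_right i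
        have h1 := eq_one_of_odd_inverted hS0.odd (hFS hx) hxt hxi
        rw [h1, orderOf_one] at hxr
        exact hrpr.ne_one hxr.symm
      obtain ⟨n, hn'⟩ := IsPGroup.iff_card.1 ((isPGroup_of_elementary hEe.1).to_le hE0E)
      have hlt : r < Nat.card E0 := by
        rw [← hur, ← Nat.card_zpowers]
        have hu0 : zpowers u ≤ E0 := zpowers_le.2 (subset_closure (Set.mem_insert u {x}))
        refine lt_of_le_of_ne (card_le_of_le hu0) fun e => ?_
        exact hxu ((Subgroup.eq_of_le_of_card_ge hu0 e.ge).ge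
          (subset_closure (Set.mem_insert_of_mem u rfl)))
      rw [hn'] at hlt ⊢
      refine Nat.pow_le_pow_right hrpr.pos ?_
      by_contra hlt2
      have : r ^ n ≤ r ^ 1 := Nat.pow_le_pow_right hrpr.pos (by omega)
      rw [pow_one] at this
      omega
    · rintro p (rfl | rfl)
      · exact mem_centralizer_iff.2 fun q hq => (hXS p huX q (hFS hq.1)).eq.symm
      · exact le_centralizer_omegaC r F hx

end Finite

end CfsgLib.GWKlein
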