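import Cfsg.Agent.Lib.GWKlein.A.Main
import Cfsg.Agent.Lib.GWKlein.Embedded
import Cfsg.Agent.Lib.GWKlein.Rotating

/-!
# A minimal group: the centraliser of an involution is maximal
-/

set_option autoImplicit false
set_option linter.unusedSectionVars false
set_option linter.style.haveILetI false

universe u

namespace CfsgLib.GWKlein

open Subgroup

variable {G : Type u} [Group G] [Finite G] {t a : G}

/-- The setting of a minimal group seen from the next pair of involutions. -/
theorem Minimal.shiftPair (M : Minimal G t a) : Minimal G a (t * a) :=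
  ⟨M.setting.shift, M.simple, M.noncomm, M.small⟩

theorem oddPart_ne_bot_of_conj {s c h : G} (S : Setting G s c) (e : h * s * h⁻¹ = c)
    (hne : oddPart s ≠ ⊥) : oddPart c ≠ ⊥ := by
  rw [← S.map_oddPart_rot e, Ne, Subgroup.map_eq_bot_iff_of_injective _ (MulAut.conj h).injective]
  exact hne

/-- The standing hypotheses hold in a minimal group. -/
theorem Minimal.hyp (M : Minimal G t a) (hO : oddPart t ≠ ⊥) : Hyp G t a := by
  have T := M.setting
  refine ⟨T, M.simple, ?_, M.single⟩
  rintro v hv hv1 H hH hC ⟨g, hgH, hg⟩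
  have hOa : oddPart a ≠ ⊥ := oddPart_ne_bot_of_conj T hg.1 hO
  have hg2 := hg.shift T
  have hOta : oddPart (t * a) ≠ ⊥ := oddPart_ne_bot_of_conj T.shift hg2.1 hOa
  rcases T.mem_four_iff.1 hv with rfl | rfl | rfl | rfl
  · exact hv1 rfl
  · exact M.not_rot_of_centralizer_le hO hH hC ⟨g, hgH, hg⟩
  · exact M.shiftPair.not_rot_of_centralizer_le hOa hH hC ⟨g, hgH, hg2⟩
  · exact M.shiftPair.shiftPair.not_rot_of_centralizer_le hOta hH hC ⟨g, hgH, hg2.shift T.shift⟩

/-- The centraliser of an involution of a minimal group is a maximal subgroup. -/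
theorem Minimal.centralizer_coatom (M : Minimal G t a) (hO : oddPart t ≠ ⊥) :
    IsCoatom (centralizer ({t} : Set G)) :=
  (M.hyp hO).centralizer_isCoatom

end CfsgLib.GWKlein
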