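import Cfsg.Agent.Lib.GWKlein.A.Rotating
import Cfsg.Agent.Lib.Components.Signalizer.Balance
import Cfsg.Agent.Lib.Components.Signalizer.Equivariant
import Cfsg.Agent.Lib.Recognition.SparseOrders.Simple

/-!
# Maximality of the centraliser of an involution: centralisers of `r`-elements

`I` is an invariant subgroup of the invariant `r`-group `S0`, normalised by it, with elements of all
three types.  Every `r`-element `f ≠ 1` has an `r`-constrained centraliser with solvable `r'`-core:
this is clear if the centraliser is solvable; otherwise `f` may be taken in `S0`, centralising the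
four-group, with a rotation in its centraliser, and normalises `I`, so fixes inverted elements of
each type, one of which lies in the core of the centraliser.
-/

set_option autoImplicit false
set_option linter.unusedSectionVars false
set_option linter.style.haveILetI false

namespace CfsgLib.GWKlein

open Subgroup
open CfsgLib.Components
open CfsgLib.Components.Signalizer (centralizerPPrimeCore_le not_dvd_centralizerPPrimeCore)
open scoped Pointwise

universe u

variable {G : Type u} [Group G] [Finite G] {r : ℕ} [hr : Fact r.Prime]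

/-- An element acting on an `r`-group `P` and fixed by an involution fixes an element inverted by
it, unless the involution centralises `P`. -/
theorem exists_fixed_inverted {P : Subgroup G} (hP : IsPGroup r P) {f u : G}
    (hf : IsPGroup r (zpowers f)) (hfn : f ∈ normalizer (P : Set G)) (huf : Commute u f)
    (hu2 : u * u = 1) (hun : u ∈ normalizer (P : Set G)) (hne : ¬ P ≤ centralizer ({u} : Set G)) :
    ∃ y ∈ P, y ≠ 1 ∧ Commute f y ∧ u * y * u⁻¹ = y⁻¹ := by
  have hui : u⁻¹ = u := inv_eq_of_mul_eq_one_right hu2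
  set M := zpowers f ⊔ P with hM
  have hfP : zpowers f ≤ normalizer (P : Set G) := zpowers_le.2 hfn
  have hM2 : IsPGroup r M := by
    rw [hM, sup_comm]
    exact hP.to_sup_of_normal_left' hf hfP
  set C₁ := M ⊓ centralizer ({u} : Set G) with hC₁
  have hlt : C₁.subgroupOf M < ⊤ := lt_top_iff_ne_top.2 fun e => hne fun y hy =>
    (mem_inf.1 (show y ∈ C₁ from mem_subgroupOf.1
      (e ▸ mem_top (⟨y, mem_sup_right hy⟩ : M)))).2
  haveI : Group.IsNilpotent M := hM2.isNilpotent
  obtain ⟨x, hxn, hx⟩ :=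
    SetLike.exists_of_lt (Group.normalizerCondition_of_isNilpotent (G := M) _ hlt)
  have hfC : f ∈ C₁ :=
    ⟨mem_sup_left (mem_zpowers f), mem_centralizer_singleton_iff.2 huf.symm.eq⟩
  obtain ⟨z, hz, p, hp, e⟩ : ∃ z ∈ zpowers f, ∃ p ∈ P, z * p = (x : G) := by
    have h : (x : G) ∈ ((zpowers f : Set G) * (P : Set G)) := by
      rw [← coe_mul_of_left_le_normalizer_right (zpowers f) P hfP]
      exact x.2
    exact Set.mem_mul.1 h
  have hzC : z ∈ C₁ := zpowers_le.2 hfC hz
  have hpu : ¬ Commute u p := fun hc => hx (mem_subgroupOf.2 (e ▸ mul_mem hzC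
    (mem_inf.2 ⟨mem_sup_right hp, mem_centralizer_singleton_iff.2 hc.symm.eq⟩)))
  have hpf : Commute u (p⁻¹ * f * p) := by
    have h1 : (x : G)⁻¹ * f * x ∈ C₁ := by
      have := (mem_normalizer_iff.1 (inv_mem hxn) ⟨f, hfC.1⟩).1 (mem_subgroupOf.2 hfC)
      simpa [mem_subgroupOf] using this
    obtain ⟨i, rfl⟩ := mem_zpowers_iff.1 hz
    have hc : (f ^ i)⁻¹ * f * f ^ i = f := by group
    rw [← e, show (f ^ i * p)⁻¹ * f * (f ^ i * p) = p⁻¹ * ((f ^ i)⁻¹ * f * f ^ i) * p by group,
      hc] at h1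
    exact (mem_centralizer_singleton_iff.1 (mem_inf.1 h1).2).symm
  refine ⟨u * p * u⁻¹ * p⁻¹,
    mul_mem ((mem_normalizer_iff.1 hun p).1 hp) (inv_mem hp),
    fun h => hpu (mul_inv_eq_iff_eq_mul.1 (mul_inv_eq_one.1 h)), ?_, ?_⟩
  · show f * (u * p * u⁻¹ * p⁻¹) = u * p * u⁻¹ * p⁻¹ * f
    calc f * (u * p * u⁻¹ * p⁻¹) = (f * u) * p * u⁻¹ * p⁻¹ := by group
      _ = u * p * ((p⁻¹ * f * p) * u⁻¹) * p⁻¹ := by rw [← huf.eq]; group
      _ = u * p * (u⁻¹ * (p⁻¹ * f * p)) * p⁻¹ := by rw [← hpf.inv_left.eq]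
      _ = _ := by group
  · simp only [mul_inv_rev, inv_inv, hui, ← mul_assoc, hu2, one_mul]

theorem solvable_of_not_four {X : Type u} [Group X] [Finite X] (h : ¬ 4 ∣ Nat.card X) :
    Group.IsSolvable X := by
  haveI : Fact (Nat.Prime 2) := ⟨Nat.prime_two⟩
  obtain ⟨P⟩ : Nonempty (Sylow 2 X) := inferInstance
  refine CfsgLib.Recognition.SparseOrders.isSolvable_of_sylow_le_two P ?_
  obtain ⟨n, hn⟩ := P.2.exists_card_eq
  rw [hn]
  have : n ≤ 1 := by
    by_contra hlt
    exact h (((pow_dvd_pow 2 (show 2 ≤ n by omega)).trans (dvd_of_eq hn.symm)).trans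
      (card_subgroup_dvd_card _))
  exact (Nat.pow_le_pow_right two_pos this).trans_eq (pow_one 2)

/-- Constraint is invariant under isomorphism. -/
theorem isPConstrained_equiv {X Y : Type u} [Group X] [Finite X] [Group Y] [Finite Y] (e : X ≃* Y)
    (h : Cfsg.IsPConstrained r X) : Cfsg.IsPConstrained r Y := by
  rw [isPConstrained_iff, pLayer_eq_bot_iff] at h ⊢
  have hmap : (Cfsg.pPrimeCore r X).map e.toMonoidHom = Cfsg.pPrimeCore r Y := by
    refine le_antisymm (pPrimeCore_map_le r e.toMonoidHom e.surjective) fun y hy => ?_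
    exact ⟨e.symm y, pPrimeCore_map_le r e.symm.toMonoidHom e.symm.surjective ⟨y, hy, rfl⟩,
      e.apply_symm_apply y⟩
  rw [← layer_map_mulEquiv (QuotientGroup.congr _ (Cfsg.pPrimeCore r Y) e hmap), h, Subgroup.map_bot]

/-- The property of a centraliser passes to the conjugates. -/
theorem locals_conj {f : G} (g : G)
    (h : Cfsg.IsPConstrained r ↥(centralizer ({g * f * g⁻¹} : Set G)) ∧
      Group.IsSolvable ↥(Cfsg.centralizerPPrimeCore r (g * f * g⁻¹))) :
    Cfsg.IsPConstrained r ↥(centralizer ({f} : Set G)) ∧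
      Group.IsSolvable ↥(Cfsg.centralizerPPrimeCore r f) := by
  obtain ⟨h1, h2⟩ := h
  have e : (centralizer ({g * f * g⁻¹} : Set G)).map (MulAut.conj g⁻¹).toMonoidHom =
      centralizer ({f} : Set G) := by
    ext y
    rw [mem_map_equiv, mem_centralizer_singleton_iff, mem_centralizer_singleton_iff]
    show (MulAut.conj g⁻¹).symm y * (g * f * g⁻¹) = g * f * g⁻¹ * (MulAut.conj g⁻¹).symm y ↔ _
    rw [MulAut.conj_symm_apply, inv_inv]
    constructor
    · intro h3
      have h4 : g * (y * f) * g⁻¹ = g * (f * y) * g⁻¹ := by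
        rw [show g * (y * f) * g⁻¹ = g * y * g⁻¹ * (g * f * g⁻¹) by group, h3]; group
      exact mul_left_cancel (mul_right_cancel h4)
    · intro h3
      rw [show g * y * g⁻¹ * (g * f * g⁻¹) = g * (y * f) * g⁻¹ by group, h3]; group
  refine ⟨isPConstrained_equiv (((centralizer ({g * f * g⁻¹} : Set G)).equivMapOfInjective _
    (MulAut.conj g⁻¹).injective).trans (MulEquiv.subgroupCongr e)) h1, ?_⟩
  have e2 : Cfsg.centralizerPPrimeCore r f =
      (Cfsg.centralizerPPrimeCore r (g * f * g⁻¹)).map (MulAut.conj g⁻¹).toMonoidHom := by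
    rw [← Signalizer.map_conj_core]
    congr 1
    group
  rw [e2]
  haveI := h2
  exact Group.isSolvable_of_surjective
    (f := (MulAut.conj g⁻¹).toMonoidHom.subgroupMap (Cfsg.centralizerPPrimeCore r (g * f * g⁻¹)))
    (MonoidHom.subgroupMap_surjective _ _)

/-- A solvable centraliser is constrained with solvable core. -/
theorem locals_of_solvable {f : G} (h : Group.IsSolvable ↥(centralizer ({f} : Set G))) :
    Cfsg.IsPConstrained r ↥(centralizer ({f} : Set G)) ∧
      Group.IsSolvable ↥(Cfsg.centralizerPPrimeCore r f) := by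
  haveI := h
  refine ⟨isPConstrained_iff.2 Signalizer.pLayer_eq_bot_of_isSolvable, ?_⟩
  exact Group.isSolvable_of_isSolvable_injective
    (f := Subgroup.inclusion (centralizerPPrimeCore_le (p := r) f)) (Subgroup.inclusion_injective _)

variable {t a : G}

/-- Two involutions of the four-group and what commutes with both. -/
theorem Setting.mem_centralizer_of_two (S : Setting G t a) {v u y : G} (hv : v ∈ four t a)
    (hu : u ∈ four t a) (hv1 : v ≠ 1) (hu1 : u ≠ 1) (huv : u ≠ v) (hvy : Commute v y)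
    (huy : Commute u y) : y ∈ centralizer (four t a : Set G) := by
  refine mem_centralizer_iff.2 fun z hz => ?_
  by_cases hz1 : z = 1
  · rw [hz1, one_mul, mul_one]
  by_cases hzv : z = v
  · rw [hzv]; exact hvy.eq
  by_cases hzu : z = u
  · rw [hzu]; exact huy.eq
  haveI := S.isKleinFour
  have e : z = v * u := congrArg Subtype.val
    (IsKleinFour.eq_mul_of_ne_all (x := (⟨v, hv⟩ : four t a)) (y := ⟨u, hu⟩) (z := ⟨z, hz⟩)
      (fun e => hv1 (congrArg Subtype.val e)) (fun e => hu1 (congrArg Subtype.val e))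
      (fun e => huv (congrArg Subtype.val e).symm) (fun e => hz1 (congrArg Subtype.val e))
      (fun e => hzv (congrArg Subtype.val e)) (fun e => hzu (congrArg Subtype.val e)))
  rw [e]
  exact (hvy.mul_left huy).eq

/-- The main case: `f` in `S0` centralises the four-group and a rotation. -/
theorem Hyp.locals_of_rot (S : Hyp G t a) (hr2 : r ≠ 2) {S0 I : Subgroup G}
    (hS : VInv r t a S0) (hI : VInv r t a I) (hn : S0 ≤ normalizer (I : Set G))
    (htypes : ∀ v ∈ four t a, v ≠ 1 →
      ¬ I ⊓ centralizer ({v} : Set G) ≤ centralizer (four t a : Set G))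
    {f : G} (hfS : f ∈ S0) (hfV : f ∈ centralizer (four t a : Set G))
    (hH : centralizer ({f} : Set G) ≠ ⊤) {g : G} (hg : g ∈ centralizer ({f} : Set G))
    (hrot : Rot t a g) :
    Cfsg.IsPConstrained r ↥(centralizer ({f} : Set G)) ∧
      Group.IsSolvable ↥(Cfsg.centralizerPPrimeCore r f) := by
  have T := S.setting
  set H := centralizer ({f} : Set G) with hHdef
  have hV : four t a ≤ H := fun v hv =>
    mem_centralizer_singleton_iff.2 (T.commute_of_mem_centralizer_four hfV hv).eq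
  have hfr : IsPGroup r (zpowers f) := hS.pgroup.to_le (zpowers_le.2 hfS)
  have key : ∀ v ∈ four t a, ∀ u ∈ four t a, v ≠ 1 → u ≠ 1 → u ≠ v →
      ∃ k ∈ I ⊓ H, k ≠ 1 ∧ u * k * u⁻¹ = k⁻¹ := by
    intro v hv u hu hv1 hu1 huv
    set P := I ⊓ centralizer ({v} : Set G) with hP
    have hnorm : ∀ w, w ∈ normalizer (I : Set G) → Commute v w → w ∈ normalizer (P : Set G) :=
      fun w hw hc => inf_normalizer_le_normalizer_inf
        ⟨hw, le_normalizer (mem_centralizer_singleton'.2 hc)⟩
    obtain ⟨y, hy, hy1, hfy, hyi⟩ := exists_fixed_inverted (hI.pgroup.to_le inf_le_left : IsPGroup r P)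
      hfr (hnorm f (hn hfS) (T.commute_of_mem_centralizer_four hfV hv))
      (T.commute_of_mem_centralizer_four hfV hu) (T.four_sq hu)
      (hnorm u (hI.le_norm hu) (T.four_comm hv hu))
      (fun hle => htypes v hv hv1 fun z hz => T.mem_centralizer_of_two hv hu hv1 hu1 huv
        (mem_centralizer_singleton'.1 hz.2) (mem_centralizer_singleton'.1 (hle hz)))
    exact ⟨y, ⟨hy.1, mem_centralizer_singleton'.2 hfy⟩, hy1, hyi⟩
  -- the square of an inverted element of `I`
  have hsq : ∀ {k u : G}, k ∈ I → u * k * u⁻¹ = k⁻¹ → ∀ {N : Subgroup G},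
      u * k * u⁻¹ * k⁻¹ ∈ N → ∀ {j : ℕ}, orderOf k = 2 * j + 1 → k ∈ N := by
    intro k u hk hi N hN j hj
    rw [hi] at hN
    have h2 := inv_mem hN
    rw [← mul_inv_rev, inv_inv, ← pow_two] at h2
    have h3 := pow_mem h2 (j + 1)
    rwa [← pow_mul, show 2 * (j + 1) = orderOf k + 1 by omega, pow_succ, pow_orderOf_eq_one,
      one_mul] at h3
  obtain ⟨w, hw, hw1, hwY⟩ := S.exists_comm_mem_core hH hV
    (T.vinv_inf hI (hV.trans le_normalizer)) inf_le_right
  obtain ⟨v, hv, hv1, hwv⟩ : ∃ v ∈ four t a, v ≠ 1 ∧ w ≠ v := by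
    by_cases h : w = t
    · exact ⟨a, T.a_mem, T.a_ne_one, h ▸ T.ne⟩
    · exact ⟨t, T.t_mem, T.t_ne_one, h⟩
  obtain ⟨k, hk, hk1, hki⟩ := key v hv w hw hv1 hw1 hwv
  obtain ⟨j, hj⟩ := odd_orderOf hI.odd hk.1
  have hkc : k ∈ core H := hsq hk.1 hki (hwY k hk) hj
  have hmoves : Moves r t a H := ⟨hH, ⟨hV, g, hg, hrot⟩, I ⊓ core H,
    T.vinv_inf hI (T.le_normalizer_core_of_le hV), inf_le_right, fun hle =>
      hk1 (eq_one_of_odd_inverted hI.odd hk.1
        (T.commute_of_mem_centralizer_four (hle ⟨hk.1, hkc⟩) hw) hki)⟩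
  refine ⟨hmoves.isPConstrained T, ?_⟩
  set N := Cfsg.centralizerPPrimeCore r f
  have hNn : H ≤ normalizer (N : Set G) := Signalizer.centralizer_le_normalizer_core f
  rcases RotIn.four_le_or T ⟨hV, g, hg, hrot⟩ (centralizerPPrimeCore_le f) hNn with h4 | ⟨ho, -⟩
  · exfalso
    obtain ⟨k', hk', hk'1, hk'i⟩ := key a T.a_mem t T.t_mem T.a_ne_one T.t_ne_one T.ne
    obtain ⟨j', hj'⟩ := odd_orderOf hI.odd hk'.1
    have hmem : t * k' * t⁻¹ * k'⁻¹ ∈ N := by
      rw [show t * k' * t⁻¹ * k'⁻¹ = t * (k' * t⁻¹ * k'⁻¹) by group]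
      exact mul_mem (h4 T.t_mem) ((mem_normalizer_iff.1 (hNn hk'.2) _).1 (inv_mem (h4 T.t_mem)))
    have hk'N : k' ∈ N := hsq hk'.1 hk'i hmem hj'
    have h0 := inf_eq_bot_of_pGroup_coprime (p := r) (R := I) (D := N) hI.pgroup
      ((hr.out.coprime_iff_not_dvd.mpr (not_dvd_centralizerPPrimeCore (p := r) f)).symm)
    exact hk'1 (mem_bot.1 (h0 ▸ (⟨hk'.1, hk'N⟩ : k' ∈ I ⊓ N)))
  · exact Cfsg.Agent.S0205.result ho

/-- Every non-trivial `r`-element has an `r`-constrained centraliser with solvable `r'`-core. -/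
theorem Hyp.locals (S : Hyp G t a) (hr2 : r ≠ 2) {S0 I : Subgroup G} (hS : VInv r t a S0)
    (hO : IsSylIn r (S0 ⊓ centralizer ({t} : Set G)) (oddPart t)) (hI : VInv r t a I)
    (hIS : I ≤ S0) (hn : S0 ≤ normalizer (I : Set G))
    (htypes : ∀ v ∈ four t a, v ≠ 1 →
      ¬ I ⊓ centralizer ({v} : Set G) ≤ centralizer (four t a : Set G))
    {f : G} (hf : f ≠ 1) (hfr : IsPGroup r (zpowers f)) :
    Cfsg.IsPConstrained r ↥(centralizer ({f} : Set G)) ∧
      Group.IsSolvable ↥(Cfsg.centralizerPPrimeCore r f) := by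
  haveI : Fact (Nat.Prime 2) := ⟨Nat.prime_two⟩
  have T := S.setting
  by_cases h4 : 4 ∣ Nat.card (centralizer ({f} : Set G))
  swap
  · exact locals_of_solvable (solvable_of_not_four h4)
  -- conjugate the four-group into the centraliser
  obtain ⟨P, hP⟩ := Sylow.exists_subgroup_card_pow_prime 2
    (show 2 ^ 2 ∣ Nat.card (centralizer ({f} : Set G)) by simpa using h4)
  obtain ⟨U, hU⟩ := T.exists_sylow
  obtain ⟨Q, hQ⟩ := ((IsPGroup.of_card hP : IsPGroup 2 P).map
    (centralizer ({f} : Set G)).subtype).exists_le_sylow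
  obtain ⟨c, hc⟩ := MulAction.exists_smul_eq G Q U
  have hQe : (Q : Subgroup G) = P.map (centralizer ({f} : Set G)).subtype := by
    refine (Subgroup.eq_of_le_of_card_ge hQ ?_).symm
    rw [card_map_of_injective (centralizer ({f} : Set G)).subtype_injective, hP]
    rw [Q.card_eq_multiplicity, ← U.card_eq_multiplicity, hU, T.card_four]
    norm_num
  refine locals_conj c ?_
  set f₁ := c * f * c⁻¹ with hf₁
  have hf₁1 : f₁ ≠ 1 := fun e => hf (conj_eq_one_iff.1 e)
  have hfr₁ : IsPGroup r (zpowers f₁) := by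
    have := hfr.map (MulAut.conj c).toMonoidHom
    rwa [MonoidHom.map_zpowers] at this
  have hV : four t a ≤ centralizer ({f₁} : Set G) := by
    rw [← hU, ← hc, Sylow.coe_subgroup_smul, hQe]
    rintro _ ⟨_, ⟨y, -, rfl⟩, rfl⟩
    have h := mem_centralizer_singleton_iff.1 y.2
    refine mem_centralizer_singleton_iff.2 ?_
    show c * (y : G) * c⁻¹ * (c * f * c⁻¹) = c * f * c⁻¹ * (c * (y : G) * c⁻¹)
    rw [show c * (y : G) * c⁻¹ * (c * f * c⁻¹) = c * ((y : G) * f) * c⁻¹ by group, h]
    group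
  set H := centralizer ({f₁} : Set G) with hH
  have hHtop : H ≠ ⊤ := fun e => by
    have hz : f₁ ∈ Subgroup.center G := mem_center_iff.2 fun y =>
      mem_centralizer_singleton_iff.1 (e ▸ mem_top y : y ∈ H)
    rcases S.eq_bot_or_eq_top (N := Subgroup.center G) inferInstance with hb | htop
    · exact hf₁1 (mem_bot.1 (hb ▸ hz))
    · haveI := S.simple
      haveI : IsMulCommutative G := ⟨⟨fun p q => mem_center_iff.1 (htop ▸ mem_top q) p⟩⟩
      letI : CommGroup G := { (inferInstance : Group G) with mul_comm := mul_comm' }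
      have hp : (Nat.card G).Prime := IsSimpleGroup.prime_card
      have h4' : 4 ∣ Nat.card G := T.card_four ▸ card_subgroup_dvd_card _
      have := (Nat.prime_dvd_prime_iff_eq Nat.prime_two hp).1 ((by norm_num : 2 ∣ 4).trans h4')
      rw [← this] at h4'
      norm_num at h4'
  rcases T.type_or_rot hV with ⟨htype, -⟩ | ⟨g, hg, hrot⟩
  · refine locals_of_solvable ?_
    haveI : Group.IsSolvable ↥(core H) := Cfsg.Agent.S0205.result (odd_card_core H)
    haveI := T.solvable_four
    haveI hKn : ((core H).subgroupOf H).Normal :=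
      (normal_subgroupOf_iff_le_normalizer (core_le H)).2
        (le_normalizer.trans (le_normalizer_core H))
    haveI : Group.IsSolvable ↥((core H).subgroupOf H) :=
      Group.isSolvable_of_isSolvable_injective (f := (subgroupOfEquivOfLe (core_le H)).toMonoidHom)
        (subgroupOfEquivOfLe (core_le H)).injective
    let φ := (QuotientGroup.mk' ((core H).subgroupOf H)).comp (Subgroup.inclusion hV)
    haveI : Group.IsSolvable (↥H ⧸ (core H).subgroupOf H) := by
      refine Group.isSolvable_of_surjective (f := φ) fun q => ?_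
      obtain ⟨h, rfl⟩ := QuotientGroup.mk'_surjective _ q
      obtain ⟨k, hk, v, hv, e⟩ := htype h h.2
      refine ⟨⟨v, hv⟩, QuotientGroup.eq.2 (mem_subgroupOf.2 ?_)⟩
      show v⁻¹ * (h : G) ∈ core H
      rw [e, ← mul_assoc]
      have := core_conj_mem H (le_normalizer (inv_mem (hV hv))) hk
      rwa [inv_inv] at this
    exact Group.isSolvable_of_ker_le_range ((core H).subgroupOf H).subtype
      (QuotientGroup.mk' ((core H).subgroupOf H)) (by rw [QuotientGroup.ker_mk', range_subtype])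
  have hfV : f₁ ∈ centralizer (four t a : Set G) := mem_centralizer_iff.2 fun v hv =>
    mem_centralizer_singleton_iff.1 (hV hv)
  have hft : f₁ ∈ oddPart t := T.mem_oddPart.2 ⟨odd_orderOf (odd_card_of_isPGroup hr2 hfr₁)
    (mem_zpowers f₁), T.commute_of_mem_centralizer_four hfV T.t_mem⟩
  obtain ⟨d, -, hd, hle⟩ := T.exists_le_conj (P := zpowers f₁) (R := S0 ⊓ centralizer ({t} : Set G))
    (odd_card_core _) T.le_normalizer_oddPart (zpowers_le.2 hft)
    (T.vinv_of_pgroup hr2 hfr₁ ((le_centralizer_iff.1 (zpowers_le.2 hfV)).trans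
      (centralizer_le_normalizer _))) hO
    (T.vinv_inf hS ((T.four_le_centralizer T.t_mem).trans le_normalizer))
  obtain ⟨f₂, hf₂S, hf₂e⟩ := hle (mem_zpowers f₁)
  have hf₂ : d⁻¹ * f₁ * d⁻¹⁻¹ = f₂ := by
    rw [← hf₂e]
    show d⁻¹ * (d * f₂ * d⁻¹) * d⁻¹⁻¹ = f₂
    group
  refine locals_conj d⁻¹ ?_
  rw [hf₂]
  have hdv : ∀ v ∈ four t a, d⁻¹ * v * d = v := fun v hv => by
    rw [mul_assoc, mem_centralizer_iff.1 hd v hv, inv_mul_cancel_left]
  refine S.locals_of_rot hr2 hS hI hn htypes hf₂S.1 (mem_centralizer_iff.2 fun v hv => ?_) ?_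
    (g := d⁻¹ * g * d) ?_ ?_
  · have h := mem_centralizer_iff.1 hfV v hv
    rw [← hf₂, inv_inv]
    calc v * (d⁻¹ * f₁ * d) = d⁻¹ * (d * v * d⁻¹) * f₁ * d := by group
      _ = d⁻¹ * (v * f₁) * d := by
        rw [← mem_centralizer_iff.1 hd v hv, mul_inv_cancel_right]; group
      _ = d⁻¹ * f₁ * d * (d⁻¹ * v * d) := by rw [h]; group
      _ = _ := by rw [hdv v hv]
  · intro e
    refine hHtop ((eq_top_iff' H).2 fun y => mem_centralizer_singleton_iff.2 ?_)
    have h := mem_centralizer_singleton_iff.1 (e ▸ mem_top (d⁻¹ * y * d) :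
      d⁻¹ * y * d ∈ centralizer ({f₂} : Set G))
    rw [← hf₂, inv_inv] at h
    have h' := congrArg (fun z => d * z * d⁻¹) h
    simpa [mul_assoc] using h'
  · refine mem_centralizer_singleton_iff.2 ?_
    have h := mem_centralizer_singleton_iff.1 hg
    rw [← hf₂, inv_inv, show d⁻¹ * g * d * (d⁻¹ * f₁ * d) = d⁻¹ * (g * f₁) * d by group, h]
    group
  · refine ⟨?_, ?_⟩
    · rw [show d⁻¹ * g * d * t * (d⁻¹ * g * d)⁻¹ = d⁻¹ * (g * (d * t * d⁻¹) * g⁻¹) * d by group,
        ← mem_centralizer_iff.1 hd t T.t_mem, mul_inv_cancel_right, hrot.1, hdv a T.a_mem]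
    · rw [show d⁻¹ * g * d * a * (d⁻¹ * g * d)⁻¹ = d⁻¹ * (g * (d * a * d⁻¹) * g⁻¹) * d by group,
        ← mem_centralizer_iff.1 hd a T.a_mem, mul_inv_cancel_right, hrot.2, hdv _ T.ta_mem]

end CfsgLib.GWKlein
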