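import Cfsg.Agent.Lib.GWKlein.A.Rank
import Cfsg.Agent.Lib.Components.Signalizer.Balance
import Cfsg.Agent.Lib.Components.Signalizer.Equivariant

/-!
# Maximality of the centraliser of an involution: the signalizer functor

When the centralisers of the non-trivial elements of an `r`-group `S` are `r`-constrained with
solvable `r'`-cores, these cores form balanced functors on the elementary abelian subgroups of rank
three of `S`; all their completions are one `r'`-group `W`, normalised by `S` and by every element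
carrying one of these subgroups into `S`.
-/

set_option autoImplicit false
set_option linter.unusedSectionVars false
set_option linter.style.haveILetI false

open scoped commutatorElement

namespace CfsgLib.GWKlein

open Subgroup CfsgLib.Components CfsgLib.Components.Signalizer CfsgLib.Components.SFT

variable {G : Type*} [Group G] [Finite G] {r : ℕ} [hp : Fact r.Prime]

/-- Balance for an `r`-element in a constrained centraliser. -/
theorem core_balance {a b : G} (hab : Commute a b) (ha : IsPGroup r (zpowers a))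
    (hc : Cfsg.IsPConstrained r ↥(centralizer ({b} : Set G))) :
    Cfsg.centralizerPPrimeCore r a ⊓ centralizer {b} ≤ Cfsg.centralizerPPrimeCore r b := by
  set H := centralizer ({b} : Set G) with hH
  let a' : H := ⟨a, mem_centralizer_singleton_iff.mpr hab.eq⟩
  have h2 : (zpowers a').map H.subtype = zpowers a := by
    rw [MonoidHom.map_zpowers]; rfl
  have hP : IsPGroup r ↥(zpowers a') := (h2.symm ▸ ha : IsPGroup r ↥((zpowers a').map H.subtype)).of_equiv
    ((zpowers a').equivMapOfInjective H.subtype H.subtype_injective).symm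
  set N := normalizer ((zpowers a' : Subgroup H) : Set H) with hN
  let f : N →* G := H.subtype.comp N.subtype
  have hf : Function.Injective f := H.subtype_injective.comp N.subtype_injective
  set D := (Cfsg.centralizerPPrimeCore r a).comap f with hD
  have hDcard : (Nat.card D).Coprime r := by
    refine ((hp.out.coprime_iff_not_dvd.mpr
      (not_dvd_centralizerPPrimeCore (p := r) a)).symm).coprime_dvd_left ?_
    rw [← card_map_of_injective hf]
    exact card_dvd_of_le (map_comap_le _ _)
  haveI hDn : D.Normal := by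
    refine ⟨fun d hd n => ?_⟩
    have hn : (f n) ∈ normalizer ((centralizer ({a} : Set G) : Subgroup G) : Set G) := by
      have h1 : f n ∈ normalizer ((zpowers a : Subgroup G) : Set G) := by
        rw [← h2]
        exact le_normalizer_map H.subtype (mem_map_of_mem _ n.2)
      have h3 := normalizer_le_normalizer_centralizer h1
      rwa [zpowers_eq_closure, centralizer_closure] at h3
    have hnorm : f n ∈ normalizer (Cfsg.centralizerPPrimeCore r a : Set G) :=
      map_subtype_normal_of_characteristic hn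
    show f (n * d * n⁻¹) ∈ Cfsg.centralizerPPrimeCore r a
    rw [map_mul, map_mul, map_inv]
    exact (mem_normalizer_iff.mp hnorm (f d)).mp hd
  intro x hx
  obtain ⟨hxa, hxb⟩ := hx
  have hxN : (⟨x, hxb⟩ : H) ∈ N := centralizer_le_normalizer _ (by
    rw [zpowers_eq_closure, centralizer_closure, mem_centralizer_singleton_iff]
    exact Subtype.ext (mem_centralizer_singleton_iff.mp (centralizerPPrimeCore_le a hxa)))
  have h1 : (⟨⟨x, hxb⟩, hxN⟩ : N) ∈ Cfsg.pPrimeCore r ↥N :=
    Solvable.Cores.le_pPrimeCore hDcard hxa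
  exact mem_map_of_mem H.subtype
    ((normalizer_of_pLayer_eq_bot (isPConstrained_iff.1 hc) hP).2 (mem_map_of_mem N.subtype h1))

/-- In a constrained centraliser an `r'`-subgroup centralised by an `r`-group, and normalised by the
centraliser of that group, lies in the core. -/
theorem le_core_of_invariant {e : G} (hc : Cfsg.IsPConstrained r ↥(centralizer ({e} : Set G)))
    {K P0 : Subgroup G} (hK : ¬ r ∣ Nat.card K) (hKe : K ≤ centralizer ({e} : Set G))
    (hP : IsPGroup r P0) (hPe : P0 ≤ centralizer ({e} : Set G))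
    (hKP : K ≤ centralizer (P0 : Set G))
    (hn : centralizer ({e} : Set G) ⊓ centralizer (P0 : Set G) ≤ normalizer (K : Set G)) :
    K ≤ Cfsg.centralizerPPrimeCore r e := by
  set H := centralizer ({e} : Set G) with hH
  set P := P0.subgroupOf H with hPdef
  have hcop : (Nat.card K).Coprime r := (hp.out.coprime_iff_not_dvd.mpr hK).symm
  intro g hg
  set g' : H := ⟨g, hKe hg⟩ with hg'
  have hg'o : (orderOf g').Coprime r := by
    rw [← Subgroup.orderOf_coe g']
    exact hcop.coprime_dvd_left (Subgroup.orderOf_dvd_natCard K hg)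
  set q := QuotientGroup.mk' (Cfsg.pPrimeCore r ↥H) with hq
  have hcent : q g' ∈
      centralizer (Cfsg.pCore r (↥H ⧸ Cfsg.pPrimeCore r ↥H) : Set (↥H ⧸ Cfsg.pPrimeCore r ↥H)) := by
    refine map_mem_centralizer_pCore (P := P) (hP.of_equiv (subgroupOfEquivOfLe hPe).symm) hg'o
      (mem_centralizer_iff.2 fun y hy => Subtype.ext (mem_centralizer_iff.1 (hKP hg) (y : G) hy))
      fun x hx => ?_
    haveI : (Cfsg.pPrimePCore r ↥H).Normal := Subgroup.Normal.comap inferInstance _
    have hxn : (x : G) ∈ normalizer (K : Set G) := hn ⟨x.2, mem_centralizer_iff.2 fun y hy =>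
      congrArg Subtype.val (mem_centralizer_iff.1 hx.2 ⟨y, hPe hy⟩ hy)⟩
    have hcK : ((⁅g', x⁆ : ↥H) : G) ∈ K := by
      show g * (x : G) * g⁻¹ * (x : G)⁻¹ ∈ K
      rw [show g * (x : G) * g⁻¹ * (x : G)⁻¹ = g * ((x : G) * g⁻¹ * (x : G)⁻¹) by group]
      exact mul_mem hg ((mem_normalizer_iff.1 hxn g⁻¹).1 (inv_mem hg))
    have hcP : ⁅g', x⁆ ∈ Cfsg.pPrimePCore r ↥H := by
      rw [commutatorElement_def]
      exact mul_mem (Subgroup.Normal.conj_mem inferInstance x hx.1 g') (inv_mem hx.1)
    have hcop' : (orderOf (q ⁅g', x⁆)).Coprime r := by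
      refine Nat.Coprime.coprime_dvd_left (orderOf_map_dvd q _) ?_
      rw [← Subgroup.orderOf_coe (⁅g', x⁆ : ↥H)]
      exact hcop.coprime_dvd_left (Subgroup.orderOf_dvd_natCard K hcK)
    have h1 : zpowers (q ⁅g', x⁆) ≤ Cfsg.pCore r (↥H ⧸ Cfsg.pPrimeCore r ↥H) :=
      zpowers_le.2 hcP
    have h2 := inf_eq_bot_of_pGroup_coprime (Solvable.Cores.isPGroup_pCore r)
      (D := zpowers (q ⁅g', x⁆)) (by rwa [Nat.card_zpowers])
    rw [inf_eq_right.2 h1, zpowers_eq_bot] at h2
    exact (QuotientGroup.eq_one_iff _).1 h2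
  have hC : centralizer (Cfsg.pCore r (↥H ⧸ Cfsg.pPrimeCore r ↥H) : Set (↥H ⧸ Cfsg.pPrimeCore r ↥H)) ≤
      Cfsg.pCore r (↥H ⧸ Cfsg.pPrimeCore r ↥H) :=
    (centralizer_pCore_le_iff_layer pPrimeCore_quotient_eq_bot).mpr
      (pLayer_eq_bot_iff.mp (isPConstrained_iff.1 hc))
  have h2 := inf_eq_bot_of_pGroup_coprime (Solvable.Cores.isPGroup_pCore r)
    (D := zpowers (q g')) (by rw [Nat.card_zpowers]; exact hg'o.coprime_dvd_left (orderOf_map_dvd q _))
  rw [inf_eq_right.2 (zpowers_le.2 (hC hcent)), zpowers_eq_bot] at h2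
  exact mem_map_of_mem H.subtype ((QuotientGroup.eq_one_iff _).1 h2)

/-- On a subgroup of order at least `r ^ 2` the completion is generated by the same values. -/
theorem closure_eq_of_functor {A E : Subgroup G} {θ : G → Subgroup G}
    (hθ : Cfsg.IsSolvableSignalizerFunctor r A θ) (hA : Cfsg.IsElementaryAbelian r A)
    (hEA : E ≤ A) (hE2 : r ^ 2 ≤ Nat.card E) : vertexClosure θ E = vertexClosure θ A := by
  refine le_antisymm (iSup_le fun e => le_iSup (fun a : {a : G // a ∈ A ∧ a ≠ 1} => θ (a : G))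
    ⟨e, hEA e.2.1, e.2.2⟩) (iSup_le fun a => ?_)
  have hm := theta_member hθ a.2.1 a.2.2
  refine (le_iSup_centralizer_relIndex hA hEA (exists_ne_one_of_card hE2 (by norm_num)) hm.2.1
    (member_le_normalizer hm)).trans (iSup_le fun D => ?_)
  have hDne : (D : Subgroup G) ≠ ⊥ := by
    intro hb
    have h1 := Coprime.card_mul_relIndex' D.2.1
    rw [D.2.2, hb, Subgroup.card_bot, one_mul] at h1
    have h2 : r ^ 1 < r ^ 2 := Nat.pow_lt_pow_right hp.out.one_lt (by norm_num)
    rw [pow_one] at h2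
    omega
  obtain ⟨x, hxD, hx1⟩ := (D : Subgroup G).bot_or_exists_ne_one.resolve_left hDne
  have hxE : x ∈ E := D.2.1 hxD
  exact ((inf_le_inf_left _ (centralizer_le (Set.singleton_subset_iff.2 hxD))).trans
    (hm.2.2.2 x (hEA hxE) hx1)).trans
      (le_iSup (fun e : {e : G // e ∈ E ∧ e ≠ 1} => θ (e : G)) ⟨x, hxE, hx1⟩)

/-- The completion of the functors of cores on an `r`-group. -/
theorem exists_completion {S : Subgroup G} (hS : IsPGroup r S) (hr : r ≠ 2)
    (h3 : ∃ E ≤ S, Elem r 3 E)
    (hloc : ∀ f ∈ S, f ≠ 1 → Cfsg.IsPConstrained r ↥(centralizer ({f} : Set G)) ∧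
      Group.IsSolvable ↥(Cfsg.centralizerPPrimeCore r f)) :
    ∃ W : Subgroup G, ¬ r ∣ Nat.card W ∧
      (∀ E ≤ S, Elem r 3 E → ∀ e ∈ E, e ≠ 1 → Cfsg.centralizerPPrimeCore r e ≤ W) ∧
      (∀ g : G, (∃ E ≤ S, Elem r 3 E ∧ E.map (MulAut.conj g).toMonoidHom ≤ S) →
        g ∈ normalizer (W : Set G)) ∧ S ≤ normalizer (W : Set G) := by
  classical
  set θ : G → Subgroup G := fun a => Cfsg.centralizerPPrimeCore r a with hθdef
  have hfun : ∀ E ≤ S, Elem r 3 E → Cfsg.IsSolvableSignalizerFunctor r E θ := by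
    intro E hES hE
    refine ⟨⟨fun a _ _ => centralizerPPrimeCore_le a, fun a _ _ => not_dvd_centralizerPPrimeCore a,
      fun a ha _ b hb x hx => ?_, fun a ha _ b hb hb1 => ?_⟩, fun a ha ha1 => (hloc a (hES ha) ha1).2⟩
    · exact (mem_normalizer_iff.mp (centralizer_le_normalizer_core a
        (le_centralizer_singleton hE.1 ha hb)) x).mp hx
    · exact core_balance (commute_of_mem hE.1 ha hb) (hS.to_le (zpowers_le.2 (hES ha)))
        (hloc b (hES hb) hb1).1
  obtain ⟨A0, hA0S, hA0, hA0c, -, hhub⟩ := exists_hub hr hS h3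
  set W := vertexClosure θ A0 with hW
  have hall : ∀ E ≤ S, Elem r 3 E → vertexClosure θ E = W := by
    intro E hES hE
    obtain ⟨E1, hE1S, hE1, hA0E1, B, hB, hB2⟩ := hhub E hES hE
    rw [← closure_eq_of_functor (hfun E hES hE) hE.1 (hB.trans inf_le_left) hB2.2,
      closure_eq_of_functor (hfun E1 hE1S hE1) hE1.1 (hB.trans inf_le_right) hB2.2, hW,
      closure_eq_of_functor (hfun E1 hE1S hE1) hE1.1 hA0E1 hA0c.ge]
  have hconj : ∀ g : G, (∃ E ≤ S, Elem r 3 E ∧ E.map (MulAut.conj g).toMonoidHom ≤ S) →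
      g ∈ normalizer (W : Set G) := by
    rintro g ⟨E, hES, hE, hgS⟩
    set E' := E.map (MulAut.conj g).toMonoidHom with hE'
    have hE'3 : Elem r 3 E' := by
      obtain ⟨⟨hab, hexp⟩, hcard⟩ := hE
      haveI := hab
      refine ⟨⟨map_isMulCommutative E _, ?_⟩, ?_⟩
      · rintro _ ⟨x, hx, rfl⟩
        rw [← map_pow, hexp x hx, map_one]
      · rw [hE', card_map_of_injective (MulAut.conj g).injective]
        exact hcard
    refine Subgroup.mem_normalizer_iff_map_conj_eq.2 (eq_of_le_of_card_ge ?_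
      (card_map_of_injective (MulAut.conj g).injective).ge)
    show W.map (MulAut.conj g).toMonoidHom ≤ W
    conv_lhs => rw [← hall E hES hE]
    rw [← hall E' hgS hE'3, Subgroup.map_iSup]
    refine iSup_le fun e => ?_
    rw [hθdef, ← map_conj_core (e : G) g]
    exact le_iSup (fun x : {x : G // x ∈ E' ∧ x ≠ 1} => θ (x : G))
      ⟨g * e * g⁻¹, ⟨e, e.2.1, rfl⟩, fun h => e.2.2 (by simpa using h)⟩
  obtain ⟨E0, hE0S, hE0⟩ := h3
  refine ⟨W, ?_, fun E hES hE e he he1 => ?_, hconj, fun s hs => hconj s ⟨E0, hE0S, hE0, ?_⟩⟩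
  · rw [← hall E0 hE0S hE0]
    exact (solvable_complete hE0.1 hE0.2 (hfun E0 hE0S hE0)).1.2.1
  · rw [← hall E hES hE]
    exact le_iSup (fun x : {x : G // x ∈ E ∧ x ≠ 1} => θ (x : G)) ⟨e, he, he1⟩
  · rintro _ ⟨x, hx, rfl⟩
    exact mul_mem (mul_mem hs (hE0S hx)) (inv_mem hs)

end CfsgLib.GWKlein
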