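import Cfsg.Agent.Lib.GWKlein.A.Overgroup
import Cfsg.Agent.S1312

/-!
# A rotating maximal subgroup does not contain the Fitting subgroup of one over `C(t)`

If `F(M) ≤ H` for a maximal `M` over `C(t)` whose Fitting subgroup has two primes and a rotating
maximal `H`, then `M ⇝ H`: the primes of `F(M)` give `O_s(H) ≤ M`, the others are inverted by the
whole four-group, so `F*(H) ≤ M` and Bender's theorem leaves one prime.
-/

set_option autoImplicit false
set_option linter.unusedSectionVars false
set_option linter.style.haveILetI false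

namespace CfsgLib.GWKlein

open Subgroup
open CfsgLib.Components
open CfsgLib.Components.Bender (fitIn layerIn coreIn Arrow)

variable {G : Type*} [Group G] [Finite G] {t a : G}

theorem map_generalizedFitting_eq (K : Subgroup G) :
    (Cfsg.generalizedFittingSubgroup ↥K).map K.subtype = layerIn K ⊔ fitIn K := by
  rw [Cfsg.generalizedFittingSubgroup, Subgroup.map_sup]
  rfl

theorem eq_of_isPGroup_ne_bot {p q : ℕ} [Fact p.Prime] [Fact q.Prime] {K : Subgroup G}
    (hK : K ≠ ⊥) (hp : IsPGroup p ↥K) (hq : IsPGroup q ↥K) : q = p := by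
  by_contra hne
  exact hK (disjoint_self.1 (hq.disjoint_of_ne q p hne _ _ hp))

theorem Over.false_of_rotating (S : Hyp G t a) {M : Subgroup G} (O : Over t a M) {q r : ℕ}
    [hqp : Fact q.Prime] [hrp : Fact r.Prime] (hr : r ≠ 2) (hqr : q ≠ r) (hq : coreIn q M ≠ ⊥)
    (hrM : coreIn r M ≠ ⊥) {H : Subgroup G} (hH : IsCoatom H) (hmv : Moves r t a H)
    (hF : fitIn M ≤ H) : False := by
  haveI := S.simple
  have hqF : coreIn q M ≤ fitIn M := Bender.coreIn_le_fitIn q M
  let A : Arrow M H :=
    { Q := fitIn M
      ne_bot := fun e => hq (le_bot_iff.1 (e ▸ hqF))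
      le_fit := le_rfl
      le_N := hF
      layer_le := by rw [O.layer]; exact bot_le
      cent_le := fun s hs x hx _ => by
        haveI := Fact.mk hs
        exact hF (Bender.coreIn_le_fitIn s M hx) }
  have hU := Bender.isUniq_of_isCoatom O.coatom
  obtain ⟨hV, g, hgH, hg⟩ := hmv.2.1
  have hparts : ∀ s : ℕ, s.Prime → coreIn s H ≤ M := by
    intro s hs
    haveI := Fact.mk hs
    by_cases hsM : coreIn s M = ⊥
    · set X := coreIn s H with hX
      have h0 : X ⊓ M = ⊥ := A.coreIn_inf_eq_bot hsM
      have ht : ∀ y ∈ X, Commute t y → y = 1 := fun y hy hty =>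
        mem_bot.1 (h0.le ⟨hy, O.le (mem_centralizer_singleton'.2 hty)⟩)
      have hgX : g ∈ normalizer (X : Set G) := Bender.le_normalizer_coreIn s H hgH
      have ha : ∀ y ∈ X, Commute a y → y = 1 := by
        intro y hy hay
        have h1 : g⁻¹ * y * g ∈ X := by
          simpa using conj_mem_of_mem_normalizer (inv_mem hgX) hy
        have h2 : g⁻¹ * y * g = 1 := ht _ h1 (by
          show t * (g⁻¹ * y * g) = g⁻¹ * y * g * t
          calc t * (g⁻¹ * y * g) = g⁻¹ * ((g * t * g⁻¹) * y) * g := by group
            _ = g⁻¹ * (y * (g * t * g⁻¹)) * g := by rw [hg.1, hay.eq]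
            _ = g⁻¹ * y * g * t := by group)
        calc y = g * (g⁻¹ * y * g) * g⁻¹ := by group
          _ = 1 := by rw [h2]; group
      have hta : ∀ y ∈ X, Commute (t * a) y → y = 1 := by
        intro y hy hay
        have h1 : g * y * g⁻¹ ∈ X := conj_mem_of_mem_normalizer hgX hy
        have h2 : g * y * g⁻¹ = 1 := ht _ h1 (by
          rw [← hg.map_ta S.setting]
          exact hay.map (MulAut.conj g).toMonoidHom)
        calc y = g⁻¹ * (g * y * g⁻¹) * g := by group
          _ = 1 := by rw [h2]; group
      refine (S.setting.le_of_centralizers (C := (⊥ : Subgroup G))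
        (hV.trans (Bender.le_normalizer_coreIn s H))
        ((odd_card_core H).of_dvd_nat (card_dvd_of_le (hmv.coreIn_le_core S.setting hr s)))
        fun v hv hv1 y hy hvy => mem_bot.2 ?_).trans bot_le
      rcases S.setting.mem_four_iff.1 hv with e | e | e | e
      · exact absurd e hv1
      · exact ht y hy (e ▸ hvy)
      · exact ha y hy (e ▸ hvy)
      · exact hta y hy (e ▸ hvy)
    · by_cases hsr : s = r
      · subst hsr
        exact A.coreIn_le_of_two hU (Ne.symm hqr) hsM hq
      · exact A.coreIn_le_of_two hU hsr hsM hrM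
  have hHM : fitIn H ≤ M := Bender.le_of_parts le_rfl fun s hs _ => inf_le_left.trans (hparts s hs)
  have hna : ¬ IsMulCommutative G := fun hcomm => by
    obtain ⟨g', hg'⟩ := S.exists_rot
    refine hg'.not_commute S.setting ?_
    exact hcomm.is_comm.comm g' t
  have hne : M ≠ H := fun e =>
    S.noRot t S.setting.t_mem S.setting.t_ne_one M O.coatom.1 O.le ⟨g, e ▸ hgH, hg⟩
  obtain ⟨p, hp, hpM, -⟩ := Cfsg.Agent.S1312.result hna M H O.coatom hH hne
    (by rw [map_generalizedFitting_eq, O.layer, bot_sup_eq]; exact hF)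
    (by rw [map_generalizedFitting_eq, hmv.layerIn_eq_bot S.setting, bot_sup_eq]; exact hHM)
  haveI := Fact.mk hp
  have hFp : IsPGroup p ↥(fitIn M) :=
    (hpM.to_le Components.fittingSubgroup_le_generalizedFittingSubgroup).map M.subtype
  exact hqr ((eq_of_isPGroup_ne_bot hq (hFp.to_le hqF) (Bender.isPGroup_coreIn q M)).trans
    (eq_of_isPGroup_ne_bot hrM (hFp.to_le (Bender.coreIn_le_fitIn r M))
      (Bender.isPGroup_coreIn r M)).symm)

end CfsgLib.GWKlein
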