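import Cfsg.Agent.Lib.GWKlein.A.Tools
import Cfsg.Agent.Lib.Components.Bender
import Cfsg.Agent.Lib.Components.Constrained
import Cfsg.Agent.S0205

/-!
# Rotating subgroups whose core is moved by the four-group

If an invariant `r`-subgroup of the core of a rotating subgroup `H` is not centralised by the
four-group, then `H` is `r`-constrained, `E(H) = 1` and `F(H)` lies in the core.
-/

set_option autoImplicit false
set_option linter.unusedSectionVars false
set_option linter.style.haveILetI false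

namespace CfsgLib.GWKlein

open Subgroup
open CfsgLib.Components
open CfsgLib.Components.Bender (fitIn layerIn coreIn)

variable {G : Type*} [Group G] [Finite G]

theorem layer_eq_bot_of_solvable {X : Type*} [Group X] [Finite X] (h : Group.IsSolvable X) :
    Cfsg.layer X = ⊥ := by
  by_contra hne
  haveI : Group.IsPerfect ↥(Cfsg.layer X) := layer_isPerfect
  haveI : Nontrivial ↥(Cfsg.layer X) := (Subgroup.nontrivial_iff_ne_bot _).mpr hne
  haveI := h
  exact Group.IsPerfect.not_isSolvable ↥(Cfsg.layer X) inferInstance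

theorem le_normalizer_fitIn (K : Subgroup G) :
    normalizer (K : Set G) ≤ normalizer (fitIn K : Set G) :=
  fun _ hg => map_subtype_normal_of_characteristic hg

/-- A subgroup of odd order contains the centraliser in it of its Fitting subgroup. -/
theorem inf_centralizer_fitIn_le {R : Subgroup G} (hR : Odd (Nat.card R)) :
    R ⊓ centralizer (fitIn R : Set G) ≤ fitIn R := by
  haveI : Group.IsSolvable ↥R := Cfsg.Agent.S0205.result hR
  rintro x ⟨hxR, hxF⟩
  refine ⟨⟨x, hxR⟩, centralizer_fitting_le_iff.2 (layer_eq_bot_of_solvable inferInstance) ?_, rfl⟩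
  exact mem_centralizer_iff.2 fun y hy =>
    Subtype.ext (mem_centralizer_iff.1 hxF y ⟨y, hy, rfl⟩)

/-- An involution centralising the Fitting subgroup of an invariant odd subgroup centralises it. -/
theorem le_centralizer_of_fitting {R : Subgroup G} (hR : Odd (Nat.card R)) {v : G} (hvv : v * v = 1)
    (hn : v ∈ normalizer (R : Set G)) (hF : v ∈ centralizer (fitIn R : Set G)) :
    R ≤ centralizer ({v} : Set G) := by
  have hvi : v⁻¹ = v := inv_eq_of_mul_eq_one_right hvv
  by_contra hne
  obtain ⟨y, hy, hy1, hyi⟩ := exists_inverted_of_not_le hvv hn hne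
  have hyC : y ∈ fitIn R := inf_centralizer_fitIn_le hR ⟨hy, mem_centralizer_iff.2 fun f hf => by
    have hyf : y * f * y⁻¹ ∈ fitIn R :=
      conj_mem_of_mem_normalizer (le_normalizer_fitIn R (le_normalizer hy)) hf
    have h1 : f * v = v * f := mem_centralizer_iff.1 hF f hf
    have h2 : y * f * y⁻¹ * v = v * (y * f * y⁻¹) := mem_centralizer_iff.1 hF _ hyf
    have h3 : v * (y * f * y⁻¹) * v⁻¹ = y⁻¹ * f * y := by
      have hfv : v * f * v⁻¹ = f := by rw [← h1, mul_inv_cancel_right]
      calc v * (y * f * y⁻¹) * v⁻¹ = v * y * v⁻¹ * (v * f * v⁻¹) * (v * y * v⁻¹)⁻¹ := by group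
        _ = y⁻¹ * f * y := by rw [hyi, hfv, inv_inv]
    rw [← h2, mul_inv_cancel_right] at h3
    -- `y ^ 2` commutes with `f`, hence so does `y`
    have h4 : Commute (y * y) f := by
      show y * y * f = f * (y * y)
      calc y * y * f = y * (y * f * y⁻¹) * y := by group
        _ = y * (y⁻¹ * f * y) * y := by rw [h3]
        _ = f * (y * y) := by group
    obtain ⟨k, hk⟩ := odd_orderOf hR hy
    have e : y = ((y * y) ^ k)⁻¹ := by
      refine eq_inv_of_mul_eq_one_left ?_
      rw [← pow_two, ← pow_mul, ← pow_succ', ← hk, pow_orderOf_eq_one]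
    rw [e]
    exact ((h4.pow_left k).inv_left).eq.symm⟩
  exact hy1 (eq_one_of_odd_inverted hR hy (mem_centralizer_iff.1 hF y hyC).symm hyi)

/-- A normal subgroup of a subgroup with a rotation contains the four-group or lies in the core. -/
theorem RotIn.four_le_or {t a : G} {H N : Subgroup G} (S : Setting G t a) (hH : RotIn t a H)
    (hNH : N ≤ H) (hn : H ≤ normalizer (N : Set G)) :
    four t a ≤ N ∨ (Odd (Nat.card N) ∧ N ≤ core H) := by
  haveI : Fact (Nat.Prime 2) := ⟨Nat.prime_two⟩
  rcases Nat.even_or_odd (Nat.card N) with he | ho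
  · left
    obtain ⟨u, hu⟩ := exists_prime_orderOf_dvd_card' (G := N) 2 he.two_dvd
    obtain ⟨P, hP⟩ := S.exists_sylow
    let PH : Sylow 2 H := P.subtype (hP ▸ hH.1)
    have h2 : IsPGroup 2 (zpowers (⟨u, hNH u.2⟩ : H)) := IsPGroup.of_card (n := 1) (by
      rw [Nat.card_zpowers, Subgroup.orderOf_mk, Subgroup.orderOf_coe, hu, pow_one])
    obtain ⟨Q, hQ⟩ := h2.exists_le_sylow
    obtain ⟨y, hy⟩ := MulAction.exists_smul_eq H Q PH
    set v := (y : G) * u * (y : G)⁻¹ with hv
    have hvV : v ∈ four t a := by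
      have h1 : y * (⟨u, hNH u.2⟩ : H) * y⁻¹ ∈ (PH : Subgroup H) := by
        rw [← hy, Sylow.coe_subgroup_smul]
        exact ⟨⟨u, hNH u.2⟩, hQ (mem_zpowers _), rfl⟩
      rw [← hP]
      exact h1
    have hvN : v ∈ N := conj_mem_of_mem_normalizer (hn y.2) u.2
    have hv1 : v ≠ 1 := fun e => by
      have e1 : (u : G) = 1 := conj_eq_one_iff.1 e
      rw [show u = 1 from Subtype.ext e1, orderOf_one] at hu
      norm_num at hu
    obtain ⟨g, hg, hrot⟩ := hH.2
    have step : ∀ w, w ∈ N → g * w * g⁻¹ ∈ N := fun w hw =>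
      conj_mem_of_mem_normalizer (hn hg) hw
    have htaN : t ∈ N ∧ a ∈ N := by
      rcases S.mem_four_iff.1 hvV with e | e | e | e <;> rw [e] at hvN
      · exact absurd e hv1
      · exact ⟨hvN, hrot.1 ▸ step t hvN⟩
      · have h3 : t * a ∈ N := hrot.2 ▸ step a hvN
        exact ⟨hrot.map_ta S ▸ step _ h3, hvN⟩
      · have h3 : t ∈ N := hrot.map_ta S ▸ step _ hvN
        exact ⟨h3, hrot.1 ▸ step t h3⟩
    refine (closure_le _).2 ?_
    rintro w (rfl | rfl)
    exacts [htaN.1, htaN.2]
  · exact Or.inr ⟨ho, le_core hNH ho hn⟩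

namespace Moves

variable {t a : G} {r : ℕ} [hr : Fact r.Prime] {H : Subgroup G}

theorem not_four_le_centralizer (S : Setting G t a) (h : Moves r t a H) :
    ¬ four t a ≤ centralizer (fitIn (core H) : Set G) := by
  intro hle
  obtain ⟨-, ⟨hV, -⟩, X, -, hXc, hX⟩ := h
  refine hX fun x hx => mem_centralizer_iff.2 fun v hv => ?_
  exact (mem_centralizer_singleton'.1 (le_centralizer_of_fitting (odd_card_core H) (S.four_sq hv)
    (S.le_normalizer_core_of_le hV hv) (hle hv) (hXc hx))).eq

/-- `C_H(F(O(H))) ≤ F(O(H))`. -/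
theorem inf_centralizer_le (S : Setting G t a) (h : Moves r t a H) :
    H ⊓ centralizer (fitIn (core H) : Set G) ≤ fitIn (core H) := by
  set N := H ⊓ centralizer (fitIn (core H) : Set G) with hN
  have hHn : H ≤ normalizer (fitIn (core H) : Set G) :=
    le_normalizer.trans ((le_normalizer_core H).trans (le_normalizer_fitIn _))
  have hn : H ≤ normalizer (N : Set G) :=
    (le_inf le_normalizer (hHn.trans normalizer_le_normalizer_centralizer')).trans
      inf_normalizer_le_normalizer_inf
  rcases RotIn.four_le_or S h.2.1 inf_le_left hn with h4 | ⟨-, hNc⟩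
  · exact absurd (h4.trans inf_le_right) (h.not_four_le_centralizer S)
  · exact (le_inf hNc inf_le_right).trans (inf_centralizer_fitIn_le (odd_card_core H))
where
  normalizer_le_normalizer_centralizer' {K : Subgroup G} :
      normalizer (K : Set G) ≤ normalizer (centralizer (K : Set G) : Set G) :=
    CfsgLib.Components.normalizer_le_normalizer_centralizer

theorem coreIn_two_eq_bot (S : Setting G t a) (h : Moves r t a H) (hr2 : r ≠ 2) :
    coreIn 2 H = ⊥ := by
  haveI : Fact (Nat.Prime 2) := ⟨Nat.prime_two⟩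
  by_contra hne
  have h2 := Bender.isPGroup_coreIn 2 H
  rcases RotIn.four_le_or S h.2.1 (Bender.coreIn_le 2 H) (Bender.le_normalizer_coreIn 2 H) with
    h4 | ⟨ho, -⟩
  · obtain ⟨-, ⟨hV, -⟩, X, hX, hXc, hXne⟩ := h
    refine hXne fun x hx => mem_centralizer_iff.2 fun v hv => ?_
    have hy : v * x * v⁻¹ * x⁻¹ ∈ X :=
      mul_mem (conj_mem_of_mem_normalizer (hX.le_norm hv) hx) (inv_mem hx)
    have hy2 : v * x * v⁻¹ * x⁻¹ ∈ coreIn 2 H := by
      rw [show v * x * v⁻¹ * x⁻¹ = v * (x * v⁻¹ * x⁻¹) by group]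
      exact mul_mem (h4 hv) (conj_mem_of_mem_normalizer
        (Bender.le_normalizer_coreIn 2 H (core_le H (hXc hx))) (inv_mem (h4 hv)))
    have h0 : v * x * v⁻¹ * x⁻¹ = 1 := mem_bot.1
      ((hX.pgroup.disjoint_of_ne r 2 hr2 _ _ h2).eq_bot ▸ (⟨hy, hy2⟩ : _ ∈ X ⊓ coreIn 2 H))
    exact mul_inv_eq_iff_eq_mul.1 (mul_inv_eq_one.1 h0)
  · obtain ⟨n, hn⟩ := IsPGroup.iff_card.1 h2
    rcases Nat.eq_zero_or_pos n with rfl | hpos
    · exact hne (Subgroup.eq_bot_of_card_eq _ (by simpa using hn))
    · exact (Nat.not_even_iff_odd.2 ho) (hn ▸ (Nat.even_pow.2 ⟨even_two, hpos.ne'⟩))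

theorem coreIn_le_core (S : Setting G t a) (h : Moves r t a H) (hr2 : r ≠ 2) (q : ℕ)
    [hq : Fact q.Prime] : coreIn q H ≤ core H := by
  by_cases hq2 : q = 2
  · subst hq2
    rw [h.coreIn_two_eq_bot S hr2]
    exact bot_le
  · exact le_core (Bender.coreIn_le q H) (odd_card_of_isPGroup hq2 (Bender.isPGroup_coreIn q H))
      (Bender.le_normalizer_coreIn q H)

theorem fitIn_le_core (S : Setting G t a) (h : Moves r t a H) (hr2 : r ≠ 2) :
    fitIn H ≤ core H :=
  Bender.le_of_parts le_rfl fun s hs _ => by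
    haveI := Fact.mk hs
    exact inf_le_left.trans (h.coreIn_le_core S hr2 s)

theorem fitIn_core_le (H : Subgroup G) : fitIn (core H) ≤ fitIn H := by
  have h1 : fitIn (core H) ≤ H := (map_subtype_le _).trans (core_le H)
  haveI : ((fitIn (core H)).subgroupOf H).Normal :=
    (normal_subgroupOf_iff_le_normalizer h1).2
      (le_normalizer.trans ((le_normalizer_core H).trans (le_normalizer_fitIn _)))
  haveI : Group.IsNilpotent ↥(fitIn (core H)) :=
    Group.nilpotent_of_surjective _
      (MonoidHom.subgroupMap_surjective (core H).subtype (Cfsg.fittingSubgroup ↥(core H)))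
  haveI : Group.IsNilpotent ↥((fitIn (core H)).subgroupOf H) :=
    Group.nilpotent_of_mulEquiv (subgroupOfEquivOfLe h1).symm
  intro x hx
  exact ⟨⟨x, h1 hx⟩, Solvable.Cores.le_fittingSubgroup (N := (fitIn (core H)).subgroupOf H) inferInstance (mem_subgroupOf.2 hx), rfl⟩

theorem layerIn_eq_bot (S : Setting G t a) (h : Moves r t a H) : layerIn H = ⊥ := by
  rw [layerIn, Subgroup.map_eq_bot_iff_of_injective _ H.subtype_injective,
    ← centralizer_fitting_le_iff]
  intro x hx
  obtain ⟨y, hy, e⟩ := fitIn_core_le H (h.inf_centralizer_le S ⟨x.2, mem_centralizer_iff.2 fun f hf => by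
    obtain ⟨f', hf', rfl⟩ := fitIn_core_le H hf
    exact congrArg Subtype.val (mem_centralizer_iff.1 hx f' hf')⟩)
  rwa [← H.subtype_injective e]

/-- `H` is `r`-constrained. -/
theorem isPConstrained (S : Setting G t a) (h : Moves r t a H) :
    Cfsg.IsPConstrained r ↥H := by
  rw [isPConstrained_iff, pLayer_eq_bot_iff,
    ← centralizer_pCore_le_iff_layer pPrimeCore_quotient_eq_bot]
  set q := QuotientGroup.mk' (Cfsg.pPrimeCore r ↥H) with hq
  set Q := ↥H ⧸ Cfsg.pPrimeCore r ↥H
  set C : Subgroup Q := centralizer (Cfsg.pCore r Q : Set Q) with hC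
  haveI : C.Normal := inferInstance
  set R : Subgroup Q := ((core H).subgroupOf H).map q with hR
  haveI : ((core H).subgroupOf H).Normal :=
    (normal_subgroupOf_iff_le_normalizer (core_le H)).2 (le_normalizer.trans (le_normalizer_core H))
  haveI hRn : R.Normal := Subgroup.Normal.map inferInstance q (QuotientGroup.mk'_surjective _)
  have hRo : Odd (Nat.card R) := by
    refine (odd_card_core H).of_dvd_nat ((card_map_dvd _ q).trans ?_)
    rw [Nat.card_congr (subgroupOfEquivOfLe (core_le H)).toEquiv]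
  have hFR : fitIn R ≤ Cfsg.pCore r Q := by
    rw [← fitting_quotient_eq_pCore]
    haveI : (fitIn R).Normal := ConjAct.normal_of_characteristic_of_normal
    exact Solvable.Cores.le_fittingSubgroup (Group.nilpotent_of_surjective _
      (MonoidHom.subgroupMap_surjective R.subtype (Cfsg.fittingSubgroup ↥R)))
  set N := (C.comap q).map H.subtype
  have hn : H ≤ normalizer (N : Set G) := fun g hg =>
    map_subtype_normal_of_normal (C.comap q) (⟨g, hg⟩ : H)
  rcases RotIn.four_le_or S h.2.1 (map_subtype_le _) hn with h4 | ⟨-, hNc⟩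
  · obtain ⟨-, ⟨hV, -⟩, X, hX, hXc, hXne⟩ := h
    refine absurd (fun x hx => mem_centralizer_iff.2 fun v hv => ?_) hXne
    obtain ⟨v', hv', hve⟩ := h4 hv
    have hxR : q ⟨x, core_le H (hXc hx)⟩ ∈ R := ⟨_, hXc hx, rfl⟩
    have hvv : q v' * q v' = 1 := by
      rw [← map_mul, show v' * v' = 1 from Subtype.ext (by
        show (v' : G) * v' = 1
        rw [show (v' : G) = v from hve]; exact S.four_sq hv), map_one]
    have hcomm := mem_centralizer_singleton'.1 (le_centralizer_of_fitting hRo hvv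
      (by rw [normalizer_eq_top]; exact mem_top _) (centralizer_le hFR hv') hxR)
    set x' : ↥H := ⟨x, core_le H (hXc hx)⟩
    have hy : v' * x' * v'⁻¹ * x'⁻¹ ∈ Cfsg.pPrimeCore r ↥H := by
      rw [← QuotientGroup.eq_one_iff]
      show q (v' * x' * v'⁻¹ * x'⁻¹) = 1
      rw [map_mul, map_mul, map_mul, map_inv, map_inv, hcomm.eq, mul_inv_cancel_right,
        mul_inv_cancel]
    have hyX : v' * x' * v'⁻¹ * x'⁻¹ ∈ X.subgroupOf H := by
      show (v' : G) * x * (v' : G)⁻¹ * x⁻¹ ∈ X
      rw [show (v' : G) = v from hve]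
      exact mul_mem (conj_mem_of_mem_normalizer (hX.le_norm hv) hx) (inv_mem hx)
    have hXH : X ≤ H := hXc.trans (core_le H)
    have h0 : v' * x' * v'⁻¹ * x'⁻¹ = 1 := mem_bot.1 (CfsgLib.Components.inf_eq_bot_of_pGroup_coprime
      (hX.pgroup.of_equiv (subgroupOfEquivOfLe hXH).symm)
      (Solvable.Cores.coprime_card_pPrimeCore r) ▸ (⟨hyX, hy⟩ :
        _ ∈ X.subgroupOf H ⊓ Cfsg.pPrimeCore r ↥H))
    have h1 := congrArg Subtype.val (mul_inv_eq_iff_eq_mul.1 (mul_inv_eq_one.1 h0))
    simp only [Subgroup.coe_mul] at h1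
    rw [show (v' : G) = v from hve] at h1
    exact h1
  · intro z hz
    obtain ⟨z, rfl⟩ := QuotientGroup.mk'_surjective _ z
    have hzR : q z ∈ R := ⟨z, hNc ⟨z, hz, rfl⟩, rfl⟩
    exact hFR (inf_centralizer_fitIn_le hRo ⟨hzR, centralizer_le hFR hz⟩)
where
  map_subtype_normal_of_normal (K : Subgroup ↥H) [K.Normal] (g : ↥H) :
      (g : G) ∈ normalizer (K.map H.subtype : Set G) :=
    le_normalizer_map H.subtype ⟨g, by rw [normalizer_eq_top]; exact mem_top _, rfl⟩

end Moves

end CfsgLib.GWKlein
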