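import Cfsg.Agent.Lib.Fusion.ZJConstrained
import Cfsg.Agent.Lib.Fusion.SL2Sections
import Cfsg.Agent.Lib.LocalEven.InversionControl.Main

/-!
# Maximality of the centraliser of an involution: Glauberman's factorisation

An `r`-constrained group with abelian Sylow 2-subgroups is `O_{r'}(X) N(Z(J(P)))`.
-/

set_option autoImplicit false
set_option linter.unusedSectionVars false
set_option linter.style.haveILetI false

namespace CfsgLib.GWKlein

open Subgroup

universe u

variable {X : Type u} [Group X] [Finite X]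

/-- Abelian Sylow 2-subgroups pass to images. -/
theorem abelian_two_of_surjective {Y : Type*} [Group Y] (f : X →* Y) (hf : Function.Surjective f)
    (hab : ∀ T : Sylow 2 X, IsMulCommutative (T : Subgroup X)) :
    ∀ T : Sylow 2 Y, IsMulCommutative (T : Subgroup Y) := by
  haveI : Fact (Nat.Prime 2) := ⟨Nat.prime_two⟩
  intro T
  obtain ⟨T', rfl⟩ := Sylow.mapSurjective_surjective hf 2 T
  rw [Sylow.coe_mapSurjective]
  haveI := hab T'
  exact map_isMulCommutative (T' : Subgroup X) f

/-- With abelian Sylow 2-subgroups quadratic elements lie in the `r`-core. -/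
theorem quadInCore_of_abelian_two {r : ℕ} [Fact r.Prime] (hr : r ≠ 2)
    (hab : ∀ T : Sylow 2 X, IsMulCommutative (T : Subgroup X)) :
    CfsgLib.Fusion.QuadStable.QuadInCore r X := by
  intro W _ _ hW ρ hρ a ha
  by_contra hna
  haveI : Fact (Nat.Prime 2) := ⟨Nat.prime_two⟩
  obtain ⟨T⟩ : Nonempty (Sylow 2 X) := inferInstance
  exact CfsgLib.Fusion.QuadStable.sylow_two_not_comm_of_not_mem_pCore hr hW ρ hρ ha hna T (hab T)

/-- With abelian Sylow 2-subgroups the action on every normal `r`-subgroup is stable. -/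
theorem isPStableOn_of_abelian_two {r : ℕ} [Fact r.Prime] (hr : r ≠ 2)
    (hab : ∀ T : Sylow 2 X, IsMulCommutative (T : Subgroup X)) (P : Subgroup X) [P.Normal]
    (hP : IsPGroup r ↥P) : Cfsg.IsPStableOn r P :=
  CfsgLib.Fusion.SL2Sections.isPStableOn_of_frattini P hP fun V _ hV =>
    CfsgLib.Fusion.QuadStable.isPStableOn_of_quadInCore V hV (quadInCore_of_abelian_two hr
      (abelian_two_of_surjective ((QuotientGroup.mk' _).comp (QuotientGroup.mk' _))
        ((QuotientGroup.mk'_surjective _).comp (QuotientGroup.mk'_surjective _)) hab))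

/-- Glauberman's factorisation. -/
theorem zj_sup_eq_top {r : ℕ} [Fact r.Prime] (hr : r ≠ 2)
    (hab : ∀ T : Sylow 2 X, IsMulCommutative (T : Subgroup X)) (hc : Cfsg.IsPConstrained r X)
    (P : Sylow r X) :
    Cfsg.pPrimeCore r X ⊔ Subgroup.normalizer (Cfsg.centerThompsonAOf (P : Subgroup X) : Set X) = ⊤ := by
  open CfsgLib.Fusion in
  rw [ZJBridge.centerThompsonAOf_eq_Z (ZJBridge.sylow_pow_card P)]
  have hm := CfsgLib.Fusion.ZJBridge.odd_card_sylow hr P
  set m := Nat.card (P : Subgroup X)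
  set π := QuotientGroup.mk' (Cfsg.pPrimeCore r X) with hπ
  have hsurj := QuotientGroup.mk'_surjective (Cfsg.pPrimeCore r X)
  have hOc : (Nat.card (Cfsg.pPrimeCore r X)).Coprime r :=
    CfsgLib.Solvable.Cores.coprime_card_pPrimeCore r
  have hbot : Cfsg.pPrimeCore r (X ⧸ Cfsg.pPrimeCore r X) = ⊥ :=
    CfsgLib.Components.pPrimeCore_quotient_eq_bot
  have hcq := (CfsgLib.Components.centralizer_pCore_le_iff_layer hbot).mpr
    (CfsgLib.Components.pLayer_eq_bot_iff.mp (CfsgLib.Components.isPConstrained_iff.mp hc))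
  haveI := CfsgLib.Fusion.ZJGeneral.Z_characteristic hr hm hcq
    (fun Q _ hQ => isPStableOn_of_abelian_two hr (abelian_two_of_surjective π hsurj hab) Q hQ)
    (P.mapSurjective hsurj)
  have hn : (CfsgLib.Fusion.ZJGeneral.Z m (P.mapSurjective hsurj : Subgroup (X ⧸ Cfsg.pPrimeCore r X))).Normal :=
    inferInstance
  rw [Sylow.coe_mapSurjective, CfsgLib.Fusion.ZJConstrained.Z_map_quotient hOc P.isPGroup',
    ← normalizer_eq_top_iff,
    CfsgLib.Fusion.Quotient.normalizer_map hOc (P.isPGroup'.to_le (CfsgLib.Fusion.ZJGeneral.Z_le _))] at hn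
  rw [eq_top_iff]
  intro g _
  obtain ⟨w, hw, hwg⟩ := (hn ▸ mem_top (π g) :
    π g ∈ (normalizer (CfsgLib.Fusion.ZJGeneral.Z m (P : Subgroup X) : Set X)).map π)
  rw [show g = (g * w⁻¹) * w by group]
  refine mul_mem (mem_sup_left ?_) (mem_sup_right hw)
  rw [← QuotientGroup.eq_one_iff]
  show π (g * w⁻¹) = 1
  rw [map_mul, map_inv, hwg, mul_inv_cancel]

/-- Conjugation carries `Z(J(P))` to that of the conjugate. -/
theorem centerThompsonAOf_conj (P : Subgroup X) (g : X) :
    (Cfsg.centerThompsonAOf P).map (MulAut.conj g).toMonoidHom =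
      Cfsg.centerThompsonAOf (P.map (MulAut.conj g).toMonoidHom) :=
  (CfsgLib.Fsys.centerThompsonAOf_map (MulAut.conj g).toMonoidHom (MulAut.conj g).injective P).symm

/-- `Z(J(P))` computed inside a subgroup. -/
theorem centerThompsonAOf_subtype (K : Subgroup X) (P : Subgroup ↥K) :
    (Cfsg.centerThompsonAOf P).map K.subtype = Cfsg.centerThompsonAOf (P.map K.subtype) :=
  (CfsgLib.Fsys.centerThompsonAOf_map K.subtype K.subtype_injective P).symm

/-- `Z(J(P))` for `P ≤ K` computed inside `K`. -/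
theorem centerThompsonAOf_subgroupOf {P K : Subgroup X} (h : P ≤ K) :
    (Cfsg.centerThompsonAOf (P.subgroupOf K)).map K.subtype = Cfsg.centerThompsonAOf P := by
  rw [centerThompsonAOf_subtype, subgroupOf_map_subtype, inf_eq_left.2 h]

/-- The normalizer of `P` normalises `Z(J(P))`. -/
theorem normalizer_le_normalizer_zj (P : Subgroup X) :
    normalizer (P : Set X) ≤ normalizer (Cfsg.centerThompsonAOf P : Set X) :=
  CfsgLib.LocalEven.InversionControl.normalizer_le_normalizer_centerThompsonAOf P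

/-- `Z(J(P))` of a nontrivial `r`-group is nontrivial. -/
theorem zj_ne_bot {r : ℕ} [Fact r.Prime] {P : Subgroup X} (hP : IsPGroup r ↥P) (hne : P ≠ ⊥) :
    Cfsg.centerThompsonAOf P ≠ ⊥ :=
  CfsgLib.Fsys.centerThompsonAOf_ne_bot hP hne

end CfsgLib.GWKlein
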