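import Cfsg.Agent.Lib.GWKlein.Basic

/-!
# Maximality of the centraliser of an involution: the standing hypotheses

`Hyp G t a`: a simple group with Sylow 2-subgroup `four t a` in which no proper subgroup containing
the centraliser of an involution rotates the four-group, and in every proper subgroup containing the
four-group each invariant `p`-subgroup is, modulo the core, centralised by one of the three
involutions.  `RotIn t a H`: `H` contains the four-group and a
rotation of it.  `Moves r t a H`: moreover some invariant `r`-subgroup of the core of `H` is not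
centralised by the four-group.
-/

set_option autoImplicit false
set_option linter.unusedSectionVars false
set_option linter.style.haveILetI false

namespace CfsgLib.GWKlein

open Subgroup

variable {G : Type*} [Group G]

/-- The standing hypotheses. -/
structure Hyp (G : Type*) [Group G] (t a : G) : Prop where
  setting : Setting G t a
  simple : IsSimpleGroup G
  noRot : ∀ v ∈ four t a, v ≠ 1 → ∀ H : Subgroup G, H ≠ ⊤ → centralizer ({v} : Set G) ≤ H →
    ¬ ∃ g ∈ H, Rot t a g
  single : ∀ H : Subgroup G, H ≠ ⊤ → four t a ≤ H → Single t a H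

/-- `H` contains the four-group and a rotation of it. -/
def RotIn (t a : G) (H : Subgroup G) : Prop := four t a ≤ H ∧ ∃ g ∈ H, Rot t a g

/-- A proper subgroup with a rotation whose core has an invariant `r`-subgroup not centralised by the
four-group. -/
def Moves (r : ℕ) (t a : G) (H : Subgroup G) : Prop :=
  H ≠ ⊤ ∧ RotIn t a H ∧ ∃ X : Subgroup G, VInv r t a X ∧ X ≤ core H ∧
    ¬ X ≤ centralizer (four t a : Set G)

namespace Rot

variable {t a g : G}

theorem map_ta (h : Rot t a g) (S : Setting G t a) : g * (t * a) * g⁻¹ = t := by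
  rw [show g * (t * a) * g⁻¹ = g * t * g⁻¹ * (g * a * g⁻¹) by group, h.1, h.2, ← mul_assoc,
    S.comm.symm.eq, mul_assoc, S.a_mul_self, mul_one]

theorem shift (h : Rot t a g) (S : Setting G t a) : Rot a (t * a) g :=
  ⟨h.2, by rw [h.map_ta S, S.comm.eq, ← mul_assoc, S.a_mul_self, one_mul]⟩

theorem not_commute (h : Rot t a g) (S : Setting G t a) : ¬ Commute g t := fun e => S.ne (by
  rw [← h.1, e.eq, mul_inv_cancel_right])

theorem conj_mem_four (h : Rot t a g) (S : Setting G t a) :
    ∀ v ∈ four t a, g * v * g⁻¹ ∈ four t a := by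
  intro v hv
  rcases S.mem_four_iff.1 hv with rfl | rfl | rfl | rfl
  · rw [mul_one, mul_inv_cancel]; exact one_mem _
  · rw [h.1]; exact S.a_mem
  · rw [h.2]; exact S.ta_mem
  · rw [h.map_ta S]; exact S.t_mem

theorem mem_normalizer [Finite G] (h : Rot t a g) (S : Setting G t a) :
    g ∈ normalizer (four t a : Set G) :=
  mem_normalizer_iff_map_conj_eq.2
    (eq_of_le_of_card_ge (by rintro _ ⟨v, hv, rfl⟩; exact h.conj_mem_four S v hv)
      (card_map_of_injective (MulAut.conj g).injective).ge)

end Rot

namespace RotIn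

variable {t a : G} {H K : Subgroup G}

theorem mono (h : RotIn t a H) (hHK : H ≤ K) : RotIn t a K :=
  ⟨h.1.trans hHK, h.2.imp fun _ hg => ⟨hHK hg.1, hg.2⟩⟩

theorem shift (h : RotIn t a H) (S : Setting G t a) : RotIn a (t * a) H :=
  ⟨S.four_shift.le.trans h.1, h.2.imp fun _ hg => ⟨hg.1, hg.2.shift S⟩⟩

theorem not_le_centralizer (h : RotIn t a H) (S : Setting G t a) :
    ¬ H ≤ centralizer ({t} : Set G) := fun hH => by
  obtain ⟨g, hg, hrot⟩ := h.2
  exact hrot.not_commute S (mem_centralizer_singleton_iff.1 (hH hg))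

end RotIn

namespace Hyp

variable {t a : G} (S : Hyp G t a)
include S

theorem ta2 : orderOf (t * a) = 2 := S.setting.ta_two

theorem two_dvd [Finite G] : 2 ∣ Nat.card G := by
  rw [← S.setting.t2]; exact _root_.orderOf_dvd_natCard t

theorem eq_bot_or_eq_top {N : Subgroup G} (hN : N.Normal) : N = ⊥ ∨ N = ⊤ :=
  haveI := S.simple
  hN.eq_bot_or_eq_top

theorem normalizer_ne_top {K : Subgroup G} (hK : K ≠ ⊥) (hK' : K ≠ ⊤) :
    normalizer (K : Set G) ≠ ⊤ := fun h =>
  (S.eq_bot_or_eq_top (normalizer_eq_top_iff.1 h)).elim hK hK'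

theorem normalizer_ne_top_of_pGroup [Finite G] {p : ℕ} [Fact p.Prime] {K : Subgroup G}
    (hKp : IsPGroup p K) (hp : p ≠ 2) (hK : K ≠ ⊥) : normalizer (K : Set G) ≠ ⊤ := by
  refine S.normalizer_ne_top hK fun h => ?_
  obtain ⟨n, hn⟩ := IsPGroup.iff_card.1 hKp
  rw [h, card_top] at hn
  have h2 := Nat.prime_two.dvd_of_dvd_pow (hn ▸ S.two_dvd)
  exact hp ((Nat.prime_dvd_prime_iff_eq Nat.prime_two Fact.out).1 h2).symm

theorem shift : Hyp G a (t * a) :=
  ⟨S.setting.shift, S.simple, fun v hv hv1 H hH hC hr => by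
    obtain ⟨g, hg, hrot⟩ := hr
    have h2 := (hrot.shift S.setting.shift).shift S.setting.shift.shift
    have e : a * (t * a) = t := by
      rw [S.setting.comm.eq, ← mul_assoc, S.setting.a_mul_self, one_mul]
    have e2 : (t * a) * (a * (t * a)) = a := by
      rw [e, S.setting.comm.eq, mul_assoc, S.setting.t_mul_self, mul_one]
    rw [e2, e] at h2
    exact S.noRot v (S.setting.four_shift.le hv) hv1 H hH hC ⟨g, hg, h2⟩,
   fun H hH hV p P hp hP hPH => by
    have hV' : four t a ≤ H := S.setting.four_shift.ge.trans hV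
    have hP' : VInv p t a P := ⟨hP.pgroup, hP.odd, S.setting.four_shift.ge.trans hP.le_norm⟩
    have e : a * (t * a) = t := by
      rw [S.setting.comm.eq, ← mul_assoc, S.setting.a_mul_self, one_mul]
    rw [e]
    rcases S.single H hH hV' p P hp hP' hPH with h | h | h
    exacts [Or.inr (Or.inr h), Or.inl h, Or.inr (Or.inl h)]⟩

end Hyp

end CfsgLib.GWKlein
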