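import Cfsg.Agent.Lib.GWKlein.A.Rotating
import Cfsg.Agent.Lib.GWKlein.A.Factor
import Cfsg.Agent.Lib.GWKlein.FourBasic
import Cfsg.Agent.Lib.Coprime.Sylow
import Cfsg.Agent.Lib.Fusion.Thompson

/-!
# A maximal invariant `r`-subgroup moved by `t`: the normalizer of its `Z(J)` rotates

For a maximal invariant `r`-subgroup `S₀` not centralised by `t` whose fixed points contain a Sylow
`r`-subgroup of `oddPart t`, the normalizer `N` of `Z(J(S₀))` is among the `Moves`, and
`I = S₀ ⊓ core N` is an invariant Sylow subgroup of `core N` with `S₀ = I (S₀ ⊓ C(t))`.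
-/

set_option autoImplicit false
set_option linter.unusedSectionVars false
set_option linter.style.haveILetI false

namespace CfsgLib.GWKlein

open Subgroup
open scoped Pointwise

variable {G : Type*} [Group G] {t a : G}

namespace Setting

/-- A subgroup which is its core times the four-group has no rotation. -/
theorem not_rot_of_split [Finite G] (S : Setting G t a) {H : Subgroup G} (hV : four t a ≤ H)
    (h : ∀ x ∈ H, ∃ k ∈ core H, ∃ v ∈ four t a, x = k * v) : ¬ ∃ g ∈ H, Rot t a g := by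
  rintro ⟨g, hg, hrot⟩
  obtain ⟨k, hk, v, hv, rfl⟩ := h g hg
  have hvt : v * t * v⁻¹ = t := by rw [(S.four_comm hv S.t_mem).eq, mul_inv_cancel_right]
  have e1 : k * t * k⁻¹ = a := by
    rw [← hrot.1, show k * v * t * (k * v)⁻¹ = k * (v * t * v⁻¹) * k⁻¹ by group, hvt]
  have hta : a * t ∈ core H := by
    rw [← e1]
    have h2 : k * (t * k⁻¹ * t⁻¹) ∈ core H :=
      mul_mem hk (core_conj_mem H (le_normalizer (hV S.t_mem)) (inv_mem hk))
    rw [S.t_inv] at h2
    convert h2 using 1
    group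
  have := eq_one_of_sq_odd (odd_card_core H) hta (by rw [S.comm.symm.eq]; exact S.ta_mul_self)
  exact S.ta_ne_one (S.comm.eq.trans this)

/-- The maximal invariant subgroups are permuted by the elements normalising the four-group. -/
theorem vmax_map [Finite G] (S : Setting G t a) {r : ℕ} [Fact r.Prime] {T : Subgroup G}
    (hT : VMax r t a T) {g : G} (hg : g ∈ normalizer (four t a : Set G)) :
    VMax r t a (T.map (MulAut.conj g).toMonoidHom) := by
  have hgi : ∀ v ∈ four t a, g⁻¹ * v * g ∈ four t a := fun v hv => by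
    have := conj_mem_of_mem_normalizer (inv_mem hg) hv
    rwa [inv_inv] at this
  refine ⟨S.vinv_map hT.prop hgi, fun U hU hle => ?_⟩
  have hU' : VInv r t a (U.map (MulAut.conj g⁻¹).toMonoidHom) := S.vinv_map hU fun v hv => by
    rw [inv_inv]; exact conj_mem_of_mem_normalizer hg hv
  have h1 : T ≤ U.map (MulAut.conj g⁻¹).toMonoidHom := fun x hx =>
    ⟨g * x * g⁻¹, hle ⟨x, hx, rfl⟩, by simp [MulAut.conj_apply]; group⟩
  have h2 := hT.le_of_ge hU' h1
  intro x hx
  exact ⟨g⁻¹ * x * g, h2 ⟨x, hx, by simp [MulAut.conj_apply]⟩, by simp [MulAut.conj_apply]; group⟩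

theorem mem_normalizer_of_mem_centralizer [Finite G] (S : Setting G t a) {c : G}
    (hc : c ∈ centralizer (four t a : Set G)) : c ∈ normalizer (four t a : Set G) :=
  mem_normalizer_iff_map_conj_eq.2 (Subgroup.eq_of_le_of_card_ge (by
    rintro _ ⟨v, hv, rfl⟩
    show c * v * c⁻¹ ∈ _
    rwa [← mem_centralizer_iff.1 hc v hv, mul_inv_cancel_right])
    (card_map_of_injective (MulAut.conj c).injective).ge)

theorem map_four_centralizer [Finite G] (S : Setting G t a) {K : Subgroup G} {g : G}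
    (hg : g ∈ normalizer (four t a : Set G)) (hK : K ≤ centralizer (four t a : Set G)) :
    K.map (MulAut.conj g).toMonoidHom ≤ centralizer (four t a : Set G) := by
  rintro _ ⟨x, hx, rfl⟩
  refine mem_centralizer_iff.2 fun v hv => ?_
  show v * (g * x * g⁻¹) = g * x * g⁻¹ * v
  have hv' : g⁻¹ * v * g ∈ four t a := by
    have := conj_mem_of_mem_normalizer (inv_mem hg) hv
    rwa [inv_inv] at this
  calc v * (g * x * g⁻¹) = g * (g⁻¹ * v * g * x) * g⁻¹ := by group
    _ = g * (x * (g⁻¹ * v * g)) * g⁻¹ := by rw [mem_centralizer_iff.1 (hK hx) _ hv']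
    _ = g * x * g⁻¹ * v := by group

end Setting

namespace Hyp

variable [Finite G] (S : Hyp G t a) {r : ℕ} [Fact r.Prime]
include S

theorem exists_rotation : ∃ g : G, Rot t a g := by
  rcases S.setting.type_or_rot (le_top : four t a ≤ ⊤) with ⟨h1, -⟩ | ⟨g, -, hg⟩
  · exfalso
    have hn : (core (⊤ : Subgroup G)).Normal :=
      normalizer_eq_top_iff.1 (top_unique ((le_normalizer (H := (⊤ : Subgroup G))).trans
        (le_normalizer_core ⊤)))
    rcases S.eq_bot_or_eq_top hn with e | e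
    · have hz : (zpowers t).Normal := ⟨fun x hx y => by
        have hall : ∀ w : G, w ∈ four t a := fun w => by
          obtain ⟨k, hk, v, hv, rfl⟩ := h1 w (mem_top _)
          rw [e, mem_bot] at hk
          rwa [hk, one_mul]
        rwa [(S.setting.four_comm (hall y) (hall x)).eq, mul_inv_cancel_right]⟩
      rcases S.eq_bot_or_eq_top hz with e' | e'
      · exact zpowers_ne_bot.2 S.setting.t_ne_one e'
      · have h4 := card_dvd_of_le (le_top : four t a ≤ (⊤ : Subgroup G))
        rw [← e', Nat.card_zpowers, S.setting.t2, S.setting.card_four] at h4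
        norm_num at h4
    · have hodd := odd_orderOf (odd_card_core (⊤ : Subgroup G)) (e.symm ▸ mem_top t)
      rw [S.setting.t2] at hodd
      exact absurd hodd (by decide)
  · exact ⟨g, hg⟩

/-- Without `Moves`, maximal invariant subgroups meeting outside the centraliser of the four-group
are conjugate under it. -/
theorem exists_conj_of_meet (hr : r ≠ 2) (hno : ∀ H : Subgroup G, ¬ Moves r t a H) :
    ∀ (n : ℕ) (T₁ T₂ : Subgroup G), VMax r t a T₁ → VMax r t a T₂ →
      Nat.card G - Nat.card ↥(T₁ ⊓ T₂) ≤ n → ¬ T₁ ⊓ T₂ ≤ centralizer (four t a : Set G) →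
      ∃ d ∈ centralizer (four t a : Set G), T₁.map (MulAut.conj d).toMonoidHom = T₂ := by
  intro n
  induction n using Nat.strong_induction_on with
  | _ n ih =>
  intro T₁ T₂ h₁ h₂ hn hne
  by_cases heq : T₁ = T₂
  · refine ⟨1, one_mem _, ?_⟩
    rw [map_one, ← heq]; exact map_id _
  set I := T₁ ⊓ T₂ with hI
  have hlt₁ : I < T₁ := lt_of_le_of_ne inf_le_left fun e =>
    heq (le_antisymm (e ▸ inf_le_right) (h₁.le_of_ge h₂.prop (e ▸ inf_le_right)))
  have hlt₂ : I < T₂ := lt_of_le_of_ne inf_le_right fun e =>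
    heq (le_antisymm (h₂.le_of_ge h₁.prop (e ▸ inf_le_left)) (e ▸ inf_le_left))
  have hIv : VInv r t a I := S.setting.vinv_inf h₁.prop h₂.prop.le_norm
  have hI1 : I ≠ ⊥ := fun e => hne (e ▸ bot_le)
  set H := normalizer (I : Set G) with hH
  have hHtop : H ≠ ⊤ := S.normalizer_ne_top_of_pGroup hIv.pgroup hr hI1
  have hV : four t a ≤ H := hIv.le_norm
  rcases S.setting.type_or_rot hV with ⟨-, hodd⟩ | ⟨g, hg, hrot⟩
  swap
  · exact absurd (S.moves_of_rot hHtop hV hIv le_normalizer hg hrot hg hne) (hno H)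
  -- the normalisers of `I` in the two subgroups
  have hJv : ∀ {T : Subgroup G}, VMax r t a T → VInv r t a (T ⊓ H) := fun {T} hT =>
    S.setting.vinv_inf hT.prop (hV.trans le_normalizer)
  have hJc : ∀ {T : Subgroup G}, VMax r t a T → T ⊓ H ≤ core H := fun {T} hT x hx =>
    hodd x hx.2 (odd_orderOf hT.prop.odd hx.1)
  have hJlt : ∀ {T : Subgroup G}, VMax r t a T → I < T → I < T ⊓ H := fun {T} hT hlt =>
    Coprime.lt_normalizer_inf_of_lt hT.prop.pgroup hlt
  obtain ⟨R₁, hR₁s, hR₁, hJR₁⟩ := S.setting.exists_sylow_ge (r := r) (odd_card_core H)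
    (S.setting.le_normalizer_core_of_le hV) (hJc h₁) (hJv h₁)
  obtain ⟨c, -, hc, hJR₂⟩ := S.setting.exists_le_conj (odd_card_core H)
    (S.setting.le_normalizer_core_of_le hV) (hJc h₂) (hJv h₂) hR₁s hR₁
  obtain ⟨T₃, hR₁T, hT₃⟩ := Finite.exists_le_maximal (p := fun U => VInv r t a U) hR₁
  have hT₃c := S.setting.vmax_map hT₃ (S.setting.mem_normalizer_of_mem_centralizer hc)
  have hmeas : ∀ {T T' J : Subgroup G}, I < J → J ≤ T ⊓ T' →
      Nat.card G - Nat.card ↥(T ⊓ T') < n ∧ ¬ T ⊓ T' ≤ centralizer (four t a : Set G) :=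
    fun {T T' J} hlt hle => by
      refine ⟨?_, fun h => hne ((hlt.le.trans hle).trans h)⟩
      have h1 : Nat.card I < Nat.card ↥(T ⊓ T') :=
        Set.Finite.card_lt_card (Set.toFinite _) (lt_of_lt_of_le hlt hle)
      have h2 := card_le_card_group (T ⊓ T')
      omega
  obtain ⟨hm₁, hne₁⟩ := hmeas (T := T₁) (T' := T₃) (hJlt h₁ hlt₁)
    (le_inf inf_le_left (hJR₁.trans hR₁T))
  obtain ⟨d₁, hd₁, he₁⟩ := ih _ hm₁ T₁ T₃ h₁ hT₃ le_rfl hne₁
  obtain ⟨hm₂, hne₂⟩ := hmeas (T := T₃.map (MulAut.conj c).toMonoidHom) (T' := T₂) (hJlt h₂ hlt₂)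
    (le_inf (hJR₂.trans (map_mono hR₁T)) inf_le_left)
  obtain ⟨d₂, hd₂, he₂⟩ := ih _ hm₂ _ T₂ hT₃c h₂ le_rfl hne₂
  refine ⟨d₂ * (c * d₁), mul_mem hd₂ (mul_mem hc hd₁), ?_⟩
  rw [← he₂, ← he₁, Subgroup.map_map, Subgroup.map_map, map_mul, map_mul]
  rfl

/-- `N(Z(J(S₀)))` rotates, and the core cuts out an invariant Sylow subgroup. -/
theorem moves_zj (hr : r ≠ 2)
    (hzj : ∀ H : Subgroup G, Moves r t a H → ∃ P : Sylow r G,
      Moves r t a (normalizer (Cfsg.centerThompsonAOf (P : Subgroup G) : Set G)))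
    (hconj : ∀ {H : Subgroup G} {x : G}, RotIn t a H →
      four t a ≤ H.map (MulAut.conj x).toMonoidHom → RotIn t a (H.map (MulAut.conj x).toMonoidHom))
    {S₀ : Subgroup G} (hmax : VMax r t a S₀)
    (hO : IsSylIn r (S₀ ⊓ centralizer ({t} : Set G)) (oddPart t))
    (hne : ¬ S₀ ≤ centralizer ({t} : Set G)) :
    Moves r t a (normalizer (Cfsg.centerThompsonAOf S₀ : Set G)) ∧
      ∃ I : Subgroup G, I = S₀ ⊓ core (normalizer (Cfsg.centerThompsonAOf S₀ : Set G)) ∧
        IsSylIn r I (core (normalizer (Cfsg.centerThompsonAOf S₀ : Set G))) ∧ VInv r t a I ∧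
        (∃ g ∈ normalizer (Cfsg.centerThompsonAOf S₀ : Set G),
          Rot t a g ∧ g ∈ normalizer (I : Set G)) ∧
        (∀ v ∈ four t a, v ≠ 1 →
          ¬ I ⊓ centralizer ({v} : Set G) ≤ centralizer (four t a : Set G)) ∧
        S₀ ≤ normalizer (I : Set G) ∧ S₀ ≤ I ⊔ (S₀ ⊓ centralizer ({t} : Set G)) := by
  have hrp : r.Prime := Fact.out
  have T := S.setting
  have hSv := hmax.prop
  have hS1 : S₀ ≠ ⊥ := fun e => hne (e ▸ bot_le)
  set N := normalizer (Cfsg.centerThompsonAOf S₀ : Set G) with hNdef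
  have hNtop : N ≠ ⊤ := S.normalizer_ne_top_of_pGroup
    (hSv.pgroup.to_le (CfsgLib.Fsys.centerThompsonAOf_le S₀)) hr (zj_ne_bot hSv.pgroup hS1)
  have hNS : normalizer (S₀ : Set G) ≤ N := normalizer_le_normalizer_zj S₀
  have hSN : S₀ ≤ N := le_normalizer.trans hNS
  have hVN : four t a ≤ N := hSv.le_norm.trans hNS
  obtain ⟨g₀, hg₀⟩ := S.exists_rotation
  -- the fixed points of an involution and the Sylow subgroup of its odd part
  have hO' : ∀ {h : G} {v : G}, h ∈ normalizer (four t a : Set G) → h * t * h⁻¹ = v →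
      ∀ {K : Subgroup G}, IsPGroup r K → Odd (Nat.card K) → K ≤ centralizer ({v} : Set G) →
      Nat.card K ≤ Nat.card ↥(S₀ ⊓ centralizer ({t} : Set G)) := by
    intro h v hh hv K hK hKodd hKv
    rw [← card_map_of_injective (K := K) (f := (MulAut.conj h⁻¹).toMonoidHom)
      (MulAut.conj h⁻¹).injective]
    refine hO.card_le (T.le_oddPart ?_ ?_) (hK.map _)
    · rwa [card_map_of_injective (MulAut.conj h⁻¹).injective]
    · rintro _ ⟨x, hx, rfl⟩
      refine mem_centralizer_singleton'.2 ?_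
      have hx' : Commute v x := mem_centralizer_singleton'.1 (hKv hx)
      show t * (h⁻¹ * x * h⁻¹⁻¹) = h⁻¹ * x * h⁻¹⁻¹ * t
      calc t * (h⁻¹ * x * h⁻¹⁻¹) = h⁻¹ * (h * t * h⁻¹ * x) * h := by group
        _ = h⁻¹ * (x * (h * t * h⁻¹)) * h := by rw [hv, hx'.eq]
        _ = _ := by group
  rcases T.type_or_rot hVN with ⟨hsplit, hodd⟩ | ⟨g, hgN, hrot⟩
  · exfalso
    -- `N` is of solvable type, so `S₀` is a Sylow subgroup of `G`
    have hnorot := T.not_rot_of_split hVN hsplit
    have hSc : S₀ ≤ core N := fun x hx => hodd x (hSN hx) (odd_orderOf hSv.odd hx)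
    obtain ⟨R, hRs, hR, hSR⟩ := T.exists_sylow_ge (r := r) (odd_card_core N)
      (T.le_normalizer_core_of_le hVN) hSc hSv
    obtain rfl : R = S₀ := le_antisymm (hmax.le_of_ge hR hSR) hSR
    obtain ⟨P', hP'⟩ := hSv.pgroup.exists_le_sylow
    have hSyl : (P' : Subgroup G) = R := by
      by_contra hne'
      have hlt := Coprime.lt_normalizer_inf_of_lt P'.2 (lt_of_le_of_ne hP' (Ne.symm hne'))
      have hle : (P' : Subgroup G) ⊓ normalizer (R : Set G) ≤ core N := fun x hx =>
        hodd x (hNS hx.2) (odd_orderOf (odd_card_of_isPGroup hr P'.2) hx.1)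
      exact hlt.ne (hRs.eq_of_le hlt.le hle (P'.2.to_le inf_le_left)).symm
    by_cases hM : ∃ H : Subgroup G, Moves r t a H
    · obtain ⟨H, hH⟩ := hM
      obtain ⟨P, hP⟩ := hzj H hH
      obtain ⟨x, hx⟩ := MulAction.exists_smul_eq G P P'
      have hmap : (P : Subgroup G).map (MulAut.conj x).toMonoidHom = R := by
        rw [← hSyl, ← hx, Sylow.coe_subgroup_smul]; rfl
      have hN : (normalizer (Cfsg.centerThompsonAOf (P : Subgroup G) : Set G)).map
          (MulAut.conj x).toMonoidHom = N := by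
        rw [hNdef, ← hmap, ← centerThompsonAOf_conj]
        exact map_equiv_normalizer_eq _ (MulAut.conj x)
      exact hnorot (hN ▸ hconj hP.2.1 (hN.symm ▸ hVN)).2
    · push Not at hM
      -- some `Q = C(v)` in `S₀` is not centralised by `t`
      obtain ⟨v, hv, hv1, y, hy, hvy, hty⟩ : ∃ v ∈ four t a, v ≠ 1 ∧ ∃ y ∈ R, Commute v y ∧
          y ∉ centralizer ({t} : Set G) := by
        by_contra hno
        push Not at hno
        exact hne (T.le_of_centralizers hSv.le_norm hSv.odd hno)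
      have hvt : v ≠ t := fun e => hty (mem_centralizer_singleton'.2 (e ▸ hvy))
      obtain ⟨h, hhN, hhv, hhm⟩ : ∃ h ∈ normalizer (four t a : Set G), h * t * h⁻¹ = v ∧
          ∀ d ∈ centralizer (four t a : Set G), d * h ∈ N → False := by
        rcases T.mem_four_iff.1 hv with rfl | rfl | rfl | rfl
        · exact absurd rfl hv1
        · exact absurd rfl hvt
        · exact ⟨g₀, hg₀.mem_normalizer T, hg₀.1, fun d hd hdN =>
            hnorot ⟨_, hdN, T.rot_mul hg₀ hd⟩⟩
        · refine ⟨g₀ * g₀, mul_mem (hg₀.mem_normalizer T) (hg₀.mem_normalizer T), ?_,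
            fun d hd hdN => hnorot ⟨_, mul_mem hdN hdN, ?_⟩⟩
          · rw [show g₀ * g₀ * t * (g₀ * g₀)⁻¹ = g₀ * (g₀ * t * g₀⁻¹) * g₀⁻¹ by group, hg₀.1,
              hg₀.2]
          · have e : ∀ u ∈ four t a, d * g₀ * g₀ * u * (d * g₀ * g₀)⁻¹ =
                g₀ * (g₀ * u * g₀⁻¹) * g₀⁻¹ := fun u hu => by
              have h2 := hg₀.conj_mem_four T _ (hg₀.conj_mem_four T u hu)
              rw [show d * g₀ * g₀ * u * (d * g₀ * g₀)⁻¹ =
                d * (g₀ * (g₀ * u * g₀⁻¹) * g₀⁻¹) * d⁻¹ by group,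
                ← mem_centralizer_iff.1 hd _ h2, mul_inv_cancel_right]
            constructor
            · rw [show d * (g₀ * g₀) * (d * (g₀ * g₀)) * t * (d * (g₀ * g₀) * (d * (g₀ * g₀)))⁻¹ =
                d * g₀ * g₀ * (d * g₀ * g₀ * t * (d * g₀ * g₀)⁻¹) * (d * g₀ * g₀)⁻¹ by group,
                e t T.t_mem, hg₀.1, hg₀.2, e _ T.ta_mem, hg₀.map_ta T, hg₀.1]
            · rw [show d * (g₀ * g₀) * (d * (g₀ * g₀)) * a * (d * (g₀ * g₀) * (d * (g₀ * g₀)))⁻¹ =
                d * g₀ * g₀ * (d * g₀ * g₀ * a * (d * g₀ * g₀)⁻¹) * (d * g₀ * g₀)⁻¹ by group,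
                e a T.a_mem, hg₀.2, hg₀.map_ta T, e _ T.t_mem, hg₀.1, hg₀.2]
      set Q := R ⊓ centralizer ({v} : Set G) with hQ
      set O' := (oddPart t).map (MulAut.conj h).toMonoidHom with hO'def
      set U := (R ⊓ centralizer ({t} : Set G)).map (MulAut.conj h).toMonoidHom with hU
      have hVO : four t a ≤ normalizer (O' : Set G) := by
        intro u hu
        refine le_normalizer_map _ ⟨h⁻¹ * u * h, T.le_normalizer_oddPart ?_, ?_⟩
        · have := conj_mem_of_mem_normalizer (inv_mem hhN) hu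
          rwa [inv_inv] at this
        · simp [MulAut.conj_apply]; group
      have hOodd : Odd (Nat.card O') := by
        rw [hO'def, card_map_of_injective (MulAut.conj h).injective]; exact odd_card_core _
      have hQv : VInv r t a Q := T.vinv_inf hSv
        ((T.four_le_centralizer hv).trans le_normalizer)
      have hQO : Q ≤ O' := fun x hx => by
        have hvx : Commute v x := mem_centralizer_singleton'.1 hx.2
        refine ⟨h⁻¹ * x * h, T.mem_oddPart.2 ⟨?_, ?_⟩, by simp [MulAut.conj_apply]; group⟩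
        · rw [← orderOf_injective (MulAut.conj h).toMonoidHom (MulAut.conj h).injective (h⁻¹ * x * h)]
          have := odd_orderOf hSv.odd hx.1
          convert this using 2
          show h * (h⁻¹ * x * h) * h⁻¹ = x
          group
        · show t * (h⁻¹ * x * h) = h⁻¹ * x * h * t
          calc t * (h⁻¹ * x * h) = h⁻¹ * (h * t * h⁻¹ * x) * h := by group
            _ = h⁻¹ * (x * (h * t * h⁻¹)) * h := by rw [hhv, hvx.eq]
            _ = _ := by group
      have hUv : VInv r t a U := T.vinv_map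
        (T.vinv_inf hSv ((T.four_le_centralizer T.t_mem).trans le_normalizer)) fun u hu => by
          have := conj_mem_of_mem_normalizer (inv_mem hhN) hu
          rwa [inv_inv] at this
      have hUO : IsSylIn r U O' := by
        refine ⟨map_mono hO.le, hUv.pgroup, ?_⟩
        rw [hU, hO'def, relIndex_map_map_of_injective _ _ (MulAut.conj h).injective]
        exact hO.index
      obtain ⟨c, -, hc, hQc⟩ := T.exists_le_conj hOodd hVO hQO hQv hUO hUv
      have hch : c * h ∈ normalizer (four t a : Set G) :=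
        mul_mem (T.mem_normalizer_of_mem_centralizer hc) hhN
      have hTm := T.vmax_map hmax hch
      have hQT : Q ≤ R.map (MulAut.conj (c * h)).toMonoidHom := by
        refine hQc.trans ?_
        rw [hU, Subgroup.map_map, map_mul]
        exact map_mono inf_le_left
      obtain ⟨d, hd, he⟩ := S.exists_conj_of_meet hr hM _ _ _ hTm hmax le_rfl fun hle =>
        hty (T.centralizer_four_le_of_mem T.t_mem
          (hle ⟨hQT ⟨hy, mem_centralizer_singleton'.2 hvy⟩, hy⟩))
      refine hhm (d * c) (mul_mem hd hc) (hNS ?_)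
      refine mem_normalizer_iff_map_conj_eq.2 ?_
      conv_rhs => rw [← he]
      rw [Subgroup.map_map, mul_assoc, map_mul]
      rfl
  -- the rotating case
  set R := core N with hRdef
  set I := S₀ ⊓ R with hIdef
  have hSR : S₀ ≤ normalizer (R : Set G) := hSN.trans (le_normalizer.trans (le_normalizer_core N))
  have hVR := T.le_normalizer_core_of_le hVN
  have hIv : VInv r t a I := T.vinv_inf hSv hVR
  have hIs : IsSylIn r I R := by
    set X := R ⊔ S₀ with hX
    have hXodd : Odd (Nat.card X) := ((odd_card_core N).mul hSv.odd).of_dvd_nat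
      ⟨_, (CfsgLib.Fusion.Thompson.card_sup_mul_card_inf hSR).symm⟩
    have hVX : four t a ≤ normalizer (X : Set G) := fun u hu => by
      refine mem_normalizer_iff_map_conj_eq.2 ?_
      rw [hX, Subgroup.map_sup, mem_normalizer_iff_map_conj_eq.1 (hVR hu),
        mem_normalizer_iff_map_conj_eq.1 (hSv.le_norm hu)]
    obtain ⟨U, hUs, hU, hSU⟩ := T.exists_sylow_ge (r := r) hXodd hVX
      (le_sup_right : S₀ ≤ X) hSv
    obtain rfl : U = S₀ := le_antisymm (hmax.le_of_ge hU hSU) hSU
    obtain ⟨P, hP⟩ := hUs.exists_sylow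
    haveI : (R.subgroupOf X).Normal := (normal_subgroupOf_iff_le_normalizer le_sup_left).2
      (sup_le le_normalizer hSR)
    have hcard := Coprime.card_sylow_inf_normal P (R.subgroupOf X)
    refine ⟨inf_le_right, hIv.pgroup, fun hd => ?_⟩
    have e : ((P : Subgroup X) ⊓ R.subgroupOf X).map X.subtype = I := by
      rw [Subgroup.map_inf _ _ _ X.subtype_injective, hP, subgroupOf_map_subtype,
        inf_eq_left.2 (le_sup_left : R ≤ X)]
    rw [← card_map_of_injective X.subtype_injective, e,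
      Nat.card_congr (subgroupOfEquivOfLe (le_sup_left : R ≤ X)).toEquiv] at hcard
    have hmul := (I.subgroupOf R).card_mul_index
    rw [Nat.card_congr (subgroupOfEquivOfLe (inf_le_right : I ≤ R)).toEquiv, hcard] at hmul
    refine Nat.pow_succ_factorization_not_dvd (n := Nat.card R) Nat.card_pos.ne' hrp ?_
    rw [pow_succ]
    exact (Nat.mul_dvd_mul_left _ hd).trans (dvd_of_eq hmul)
  obtain ⟨g', hg'N, hrot', hg'I⟩ := T.exists_rot_normalizing hVN hIs hIv hgN hrot
  have hSnI : S₀ ≤ normalizer (I : Set G) :=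
    (le_inf le_normalizer hSR).trans inf_normalizer_le_normalizer_inf
  obtain ⟨w, hw, hw1, hwS⟩ := S.exists_comm_mem_core hNtop hVN hSv hSN
  -- `S₀ = I C(w)`
  have hfact : S₀ ≤ I ⊔ (S₀ ⊓ centralizer ({w} : Set G)) := by
    intro x hx
    have hww : w * w = 1 := T.four_sq hw
    have hwi := T.inv_of_mem hw
    have hi : x⁻¹ * (w * x * w) ∈ I := by
      have h1 : w * x * w * x⁻¹ ∈ R := by have := hwS x hx; rwa [hwi] at this
      have h2 : x⁻¹ * (w * x * w * x⁻¹) * x⁻¹⁻¹ ∈ R :=
        conj_mem_of_mem_normalizer (hSR (inv_mem hx)) h1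
      refine mem_inf.2 ⟨mul_mem (inv_mem hx) ?_, ?_⟩
      swap
      · rwa [show x⁻¹ * (w * x * w * x⁻¹) * x⁻¹⁻¹ = x⁻¹ * (w * x * w) by group] at h2
      have := conj_mem_of_mem_normalizer (hSv.le_norm hw) hx
      rwa [hwi] at this
    obtain ⟨s, hs, hwxs, -⟩ := exists_fix hww (odd_orderOf hIv.odd hi)
    have hsI : s ∈ I := (zpowers_le.2 hi) hs
    rw [show x = x * s * s⁻¹ by group]
    exact mul_mem (mem_sup_right ⟨mul_mem hx (inf_le_left (a := S₀) hsI),
      mem_centralizer_singleton'.2 hwxs⟩) (mem_sup_left (inv_mem hsI))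
  obtain ⟨h, hhI, hhV, hhw⟩ : ∃ h ∈ normalizer (I : Set G), h ∈ normalizer (four t a : Set G) ∧
      h * t * h⁻¹ = w := by
    have hn := hrot'.mem_normalizer T
    rcases T.mem_four_iff.1 hw with rfl | rfl | rfl | rfl
    · exact absurd rfl hw1
    · exact ⟨1, one_mem _, one_mem _, by group⟩
    · exact ⟨g', hg'I, hn, hrot'.1⟩
    · refine ⟨g' * g', mul_mem hg'I hg'I, mul_mem hn hn, ?_⟩
      rw [show g' * g' * t * (g' * g')⁻¹ = g' * (g' * t * g'⁻¹) * g'⁻¹ by group, hrot'.1, hrot'.2]
  have hfactt : S₀ ≤ I ⊔ (S₀ ⊓ centralizer ({t} : Set G)) := by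
    set Cw := S₀ ⊓ centralizer ({w} : Set G) with hCw
    set Ct := S₀ ⊓ centralizer ({t} : Set G) with hCt
    have hle : I ⊔ Ct ≤ S₀ := sup_le inf_le_left inf_le_left
    have h1 := CfsgLib.Fusion.Thompson.card_sup_mul_card_inf
      ((inf_le_left : Ct ≤ S₀).trans hSnI)
    have h2 := CfsgLib.Fusion.Thompson.card_sup_mul_card_inf
      ((inf_le_left : Cw ≤ S₀).trans hSnI)
    have hS : I ⊔ Cw = S₀ := le_antisymm (sup_le inf_le_left inf_le_left) hfact
    have hCC : Nat.card Cw ≤ Nat.card Ct := hO' hhV hhw (hSv.pgroup.to_le inf_le_left)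
      (hSv.odd.of_dvd_nat (card_dvd_of_le inf_le_left)) inf_le_right
    have hmap : (I ⊓ Ct).map (MulAut.conj h).toMonoidHom ≤ I ⊓ Cw := by
      rintro _ ⟨x, hx, rfl⟩
      have hxI : h * x * h⁻¹ ∈ I := conj_mem_of_mem_normalizer hhI hx.1
      refine ⟨hxI, inf_le_left (a := S₀) hxI, mem_centralizer_singleton'.2 ?_⟩
      show w * (h * x * h⁻¹) = h * x * h⁻¹ * w
      rw [← hhw]
      calc h * t * h⁻¹ * (h * x * h⁻¹) = h * (t * x) * h⁻¹ := by group
        _ = h * (x * t) * h⁻¹ := by rw [(mem_centralizer_singleton'.1 hx.2.2).eq]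
        _ = _ := by group
    have h3 : Nat.card ↥(I ⊓ Ct) ≤ Nat.card ↥(I ⊓ Cw) :=
      (card_map_of_injective (MulAut.conj h).injective).symm.le.trans (card_le_of_le hmap)
    rw [hS] at h2
    refine (Subgroup.eq_of_le_of_card_ge hle ?_).ge
    by_contra hlt
    push Not at hlt
    have h4 : Nat.card I * Nat.card Ct < Nat.card S₀ * Nat.card ↥(I ⊓ Cw) := by
      rw [← h1]
      exact lt_of_lt_of_le (Nat.mul_lt_mul_of_pos_right hlt Nat.card_pos)
        (Nat.mul_le_mul_left _ h3)
    rw [h2] at h4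
    exact absurd (Nat.mul_le_mul_left (Nat.card I) hCC) (not_le.2 h4)
  have hIne : ¬ I ≤ centralizer (four t a : Set G) := fun hle => hne (hfactt.trans
    (sup_le (hle.trans (T.centralizer_four_le_of_mem T.t_mem)) inf_le_right))
  have htypes : ∀ v ∈ four t a, v ≠ 1 →
      ¬ I ⊓ centralizer ({v} : Set G) ≤ centralizer (four t a : Set G) := by
    intro v hv hv1 hle
    have hn := hrot'.mem_normalizer T
    have step : ∀ {u u' : G}, g' * u * g'⁻¹ = u' →
        I ⊓ centralizer ({u} : Set G) ≤ centralizer (four t a : Set G) →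
        I ⊓ centralizer ({u'} : Set G) ≤ centralizer (four t a : Set G) := by
      intro u u' hu h x hx
      have hxu : g'⁻¹ * x * g' ∈ I ⊓ centralizer ({u} : Set G) := by
        refine ⟨by have := conj_mem_of_mem_normalizer (inv_mem hg'I) hx.1; rwa [inv_inv] at this,
          mem_centralizer_singleton'.2 ?_⟩
        have hx2 : Commute u' x := mem_centralizer_singleton'.1 hx.2
        show u * (g'⁻¹ * x * g') = g'⁻¹ * x * g' * u
        calc u * (g'⁻¹ * x * g') = g'⁻¹ * (g' * u * g'⁻¹ * x) * g' := by group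
          _ = g'⁻¹ * (x * (g' * u * g'⁻¹)) * g' := by rw [hu, hx2.eq]
          _ = _ := by group
      have := T.map_four_centralizer (K := I ⊓ centralizer ({u} : Set G)) hn h
        ⟨_, hxu, rfl⟩
      convert this using 1
      show x = g' * (g'⁻¹ * x * g') * g'⁻¹
      group
    have hall : ∀ u ∈ four t a, u ≠ 1 → ∀ x ∈ I, Commute u x →
        x ∈ centralizer (four t a : Set G) := by
      have key : I ⊓ centralizer ({t} : Set G) ≤ centralizer (four t a : Set G) := by
        rcases T.mem_four_iff.1 hv with rfl | rfl | rfl | rfl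
        exacts [absurd rfl hv1, hle, step (hrot'.map_ta T) (step hrot'.2 hle),
          step (hrot'.map_ta T) hle]
      intro u hu hu1 x hx hux
      rcases T.mem_four_iff.1 hu with rfl | rfl | rfl | rfl
      exacts [absurd rfl hu1, key ⟨hx, mem_centralizer_singleton'.2 hux⟩,
        step hrot'.1 key ⟨hx, mem_centralizer_singleton'.2 hux⟩,
        step hrot'.2 (step hrot'.1 key) ⟨hx, mem_centralizer_singleton'.2 hux⟩]
    exact hIne (T.le_of_centralizers hIv.le_norm hIv.odd hall)
  refine ⟨S.moves_of_rot hNtop hVN hIv (inf_le_left.trans hSN) hg'N hrot' hg'I hIne,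
    I, rfl, hIs, hIv, ⟨g', hg'N, hrot', hg'I⟩, htypes, hSnI, hfactt⟩

end Hyp

end CfsgLib.GWKlein
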