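import Cfsg.Agent.Lib.GWKlein.A.Rotating
import Cfsg.Agent.Lib.GWKlein.A.Factor

/-!
# The normalizer of `Z(J(P))` rotates

If some rotating subgroup has its core moved by an invariant `r`-subgroup, then so has the
normalizer of `Z(J(P))` for some Sylow `r`-subgroup `P` of the whole group.
-/

set_option autoImplicit false
set_option linter.unusedSectionVars false
set_option linter.style.haveILetI false

namespace CfsgLib.GWKlein

open Subgroup
open scoped Pointwise

variable {G : Type*} [Group G] {t a : G}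

namespace Setting

/-- Conjugates of a rotating subgroup containing the four-group rotate it. -/
theorem rotIn_map [Finite G] (S : Setting G t a) {H : Subgroup G} (h : RotIn t a H) {x : G}
    (hV : four t a ≤ H.map (MulAut.conj x).toMonoidHom) :
    RotIn t a (H.map (MulAut.conj x).toMonoidHom) := by
  haveI : Fact (Nat.Prime 2) := ⟨Nat.prime_two⟩
  refine ⟨hV, ?_⟩
  set H' := H.map (MulAut.conj x).toMonoidHom with hH'
  obtain ⟨P, hP⟩ := S.exists_sylow
  let PH : Sylow 2 H' := P.subtype (hP ▸ hV)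
  have hle : (four t a).map (MulAut.conj x).toMonoidHom ≤ H' := map_mono h.1
  set W := ((four t a).map (MulAut.conj x).toMonoidHom).subgroupOf H' with hWdef
  have hW : IsPGroup 2 W := by
    refine IsPGroup.of_equiv ?_ (subgroupOfEquivOfLe hle).symm
    exact (IsPGroup.of_card (n := 2) (by rw [S.card_four]; norm_num)).map _
  obtain ⟨T, hT⟩ := hW.exists_le_sylow
  obtain ⟨y, hy⟩ := MulAction.exists_smul_eq H' T PH
  set k : G := (y : G) * x with hk
  have hkV : ∀ v ∈ four t a, k * v * k⁻¹ ∈ four t a := by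
    intro v hv
    have hvH : x * v * x⁻¹ ∈ H' := hle ⟨v, hv, rfl⟩
    have h1 : y * (⟨x * v * x⁻¹, hvH⟩ : H') * y⁻¹ ∈ (PH : Subgroup H') := by
      rw [← hy, Sylow.coe_subgroup_smul]
      exact ⟨⟨x * v * x⁻¹, hvH⟩, hT ⟨v, hv, rfl⟩, rfl⟩
    have h2 : (y : G) * (x * v * x⁻¹) * (y : G)⁻¹ ∈ four t a := by rw [← hP]; exact h1
    rw [hk]
    convert h2 using 1
    group
  have hkN : k ∈ normalizer (four t a : Set G) := mem_normalizer_iff_map_conj_eq.2
    (eq_of_le_of_card_ge (by rintro _ ⟨v, hv, rfl⟩; exact hkV v hv)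
      (card_map_of_injective (MulAut.conj k).injective).ge)
  obtain ⟨g, hg, hrot⟩ := h.2
  have hg' : k * g * k⁻¹ ∈ H' := by
    have h1 : x * g * x⁻¹ ∈ H' := ⟨g, hg, rfl⟩
    have h2 := mul_mem (mul_mem y.2 h1) (inv_mem y.2)
    rw [hk]
    convert h2 using 1
    group
  have hgN : k * g * k⁻¹ ∈ normalizer (four t a : Set G) :=
    mul_mem (mul_mem hkN (hrot.mem_normalizer S)) (inv_mem hkN)
  refine S.exists_rot_of_moved hg' (fun v hv => (mem_normalizer_iff.1 hgN v).1 hv) (hkV t S.t_mem)
    fun hc => hrot.not_commute S ?_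
  show g * t = t * g
  calc g * t = k⁻¹ * (k * g * k⁻¹ * (k * t * k⁻¹)) * k := by group
    _ = k⁻¹ * (k * t * k⁻¹ * (k * g * k⁻¹)) * k := by rw [hc.eq]
    _ = t * g := by group

end Setting

/-- A Sylow 2-subgroup of a subgroup is abelian. -/
theorem Setting.abelian_two [Finite G] (S : Setting G t a) (M : Subgroup G) :
    ∀ T : Sylow 2 M, IsMulCommutative (T : Subgroup M) := by
  haveI : Fact (Nat.Prime 2) := ⟨Nat.prime_two⟩
  intro T
  obtain ⟨n, hn⟩ := IsPGroup.iff_card.1 T.2
  have hn2 : n ≤ 2 := by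
    by_contra hn3
    exact S.not_eight ((pow_dvd_pow 2 (show 3 ≤ n by omega)).trans
      (hn ▸ (card_subgroup_dvd_card _).trans (card_subgroup_dvd_card M)))
  refine IsMulCommutative.of_comm ?_
  interval_cases n
  · haveI : Subsingleton ↥(T : Subgroup M) := (Nat.card_eq_one_iff_unique.1 (by simpa using hn)).1
    exact fun p q => Subsingleton.elim _ _
  · haveI := isCyclic_of_prime_card (p := 2) (by simpa using hn : Nat.card ↥(T : Subgroup M) = 2)
    exact fun p q => IsCyclic.commGroup.mul_comm p q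
  · exact IsPGroup.commutative_of_card_eq_prime_sq hn

namespace Moves

variable [Finite G] {r : ℕ} [Fact r.Prime] {M : Subgroup G}

/-- The `r'`-core lies in the core. -/
theorem pPrimeCore_le_core (S : Setting G t a) (h : Moves r t a M) :
    Odd (Nat.card ((Cfsg.pPrimeCore r ↥M).map M.subtype)) ∧
      (Cfsg.pPrimeCore r ↥M).map M.subtype ≤ core M := by
  obtain ⟨-, hMrot, X, hX, hXc, hXne⟩ := h
  set O := (Cfsg.pPrimeCore r ↥M).map M.subtype with hO
  have hOM : O ≤ M := map_subtype_le _
  have hOn : M ≤ normalizer (O : Set G) := by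
    refine (normal_subgroupOf_iff_le_normalizer hOM).1 ?_
    rw [hO, subgroupOf, comap_map_eq_self_of_injective M.subtype_injective]
    infer_instance
  have hOcop : (Nat.card O).Coprime r := by
    rw [hO, card_map_of_injective M.subtype_injective]
    exact CfsgLib.Solvable.Cores.coprime_card_pPrimeCore r
  rcases RotIn.four_le_or S hMrot hOM hOn with h4 | h'
  · exfalso
    refine hXne fun x hx => mem_centralizer_iff.2 fun v hv => ?_
    have hy : v * x * v⁻¹ * x⁻¹ ∈ X :=
      mul_mem (conj_mem_of_mem_normalizer (hX.le_norm hv) hx) (inv_mem hx)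
    have hy2 : v * x * v⁻¹ * x⁻¹ ∈ O := by
      rw [show v * x * v⁻¹ * x⁻¹ = v * (x * v⁻¹ * x⁻¹) by group]
      exact mul_mem (h4 hv) (conj_mem_of_mem_normalizer (hOn (core_le M (hXc hx))) (inv_mem (h4 hv)))
    have h0 : v * x * v⁻¹ * x⁻¹ = 1 := mem_bot.1
      (CfsgLib.Components.inf_eq_bot_of_pGroup_coprime hX.pgroup hOcop ▸
        (⟨hy, hy2⟩ : _ ∈ X ⊓ O))
    exact mul_inv_eq_iff_eq_mul.1 (mul_inv_eq_one.1 h0)
  · exact h'

/-- A Sylow `r`-subgroup whose factor contains the four-group. -/
theorem exists_four_le_zj (S : Setting G t a) (hr : r ≠ 2) (h : Moves r t a M) :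
    ∃ P0 : Sylow r M, ∀ v ∈ four t a,
      v ∈ normalizer (Cfsg.centerThompsonAOf ((P0 : Subgroup M).map M.subtype) : Set G) := by
  haveI : Fact (Nat.Prime 2) := ⟨Nat.prime_two⟩
  have hab := S.abelian_two M
  have hc := h.isPConstrained S
  have hOodd := (h.pPrimeCore_le_core S).1
  have hMrot' := h.2.1
  obtain ⟨P⟩ : Nonempty (Sylow r M) := inferInstance
  set K := normalizer (Cfsg.centerThompsonAOf (P : Subgroup M) : Set M) with hK
  have hfac := zj_sup_eq_top hr hab hc P
  obtain ⟨T⟩ : Nonempty (Sylow 2 K) := inferInstance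
  obtain ⟨P4, hP4⟩ := S.exists_sylow
  let PM : Sylow 2 M := P4.subtype (hP4 ▸ hMrot'.1)
  -- a Sylow 2-subgroup of `K` is one of `M`
  have hTM : ¬ 2 ∣ ((T : Subgroup K).map K.subtype).index := by
    have hTK : ((T : Subgroup K).map K.subtype).relIndex K = (T : Subgroup K).index := by
      rw [relIndex, subgroupOf, comap_map_eq_self_of_injective K.subtype_injective]
    rw [← relIndex_mul_index (map_subtype_le _ : (T : Subgroup K).map K.subtype ≤ K), hTK]
    intro h2
    rcases Nat.prime_two.dvd_mul.1 h2 with e | e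
    · exact T.not_dvd_index e
    · have hodd : Odd (Nat.card (Cfsg.pPrimeCore r ↥M)) := by
        rwa [card_map_of_injective M.subtype_injective] at hOodd
      have hrel : K.index ∣ Nat.card (Cfsg.pPrimeCore r ↥M) := by
        have h1 := CfsgLib.Fusion.Thompson.card_sup_mul_card_inf (N := Cfsg.pPrimeCore r ↥M) (K := K)
          (by rw [normalizer_eq_top]; exact le_top)
        rw [hfac, card_top, ← K.card_mul_index, mul_assoc, mul_comm (Nat.card (Cfsg.pPrimeCore r ↥M))] at h1
        exact Dvd.intro _ (Nat.eq_of_mul_eq_mul_left Nat.card_pos h1)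
      exact (Nat.not_even_iff_odd.2 hodd) (even_iff_two_dvd.2 (e.trans hrel))
  let T' : Sylow 2 M := ((T.2.map K.subtype)).toSylow hTM
  obtain ⟨y, hy⟩ := MulAction.exists_smul_eq M T' PM
  refine ⟨y • P, fun v hv => ?_⟩
  have hvM : v ∈ M := hMrot'.1 hv
  have h1 : (⟨v, hvM⟩ : M) ∈ K.map (MulAut.conj y).toMonoidHom := by
    have h2 : (⟨v, hvM⟩ : M) ∈ (PM : Subgroup M) := by
      show v ∈ (P4 : Subgroup G)
      rw [hP4]; exact hv
    rw [← hy, Sylow.coe_subgroup_smul] at h2
    obtain ⟨w, hw, hwe⟩ := h2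
    exact ⟨w, map_subtype_le _ hw, hwe⟩
  have h3 : K.map (MulAut.conj y).toMonoidHom ≤
      normalizer (Cfsg.centerThompsonAOf ((y • P : Sylow r M) : Subgroup M) : Set M) := by
    rw [Sylow.coe_subgroup_smul]
    refine le_trans (le_normalizer_map _) ?_
    rw [centerThompsonAOf_conj]
    exact le_of_eq rfl
  have h4 : v ∈ (normalizer (Cfsg.centerThompsonAOf ((y • P : Sylow r M) : Subgroup M) : Set M)).map
      M.subtype := ⟨⟨v, hvM⟩, h3 h1, rfl⟩
  rw [← centerThompsonAOf_subtype]
  exact le_normalizer_map M.subtype h4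

end Moves

namespace Hyp

/-- The maximality step. -/
theorem exists_moves_zj [Finite G] (S : Hyp G t a) {r : ℕ} [Fact r.Prime] (hr : r ≠ 2)
    {H : Subgroup G} (h : Moves r t a H) :
    ∃ P : Sylow r G, Moves r t a (normalizer (Cfsg.centerThompsonAOf (P : Subgroup G) : Set G)) := by
  haveI : Fact (Nat.Prime 2) := ⟨Nat.prime_two⟩
  have hrp : r.Prime := Fact.out
  obtain ⟨M, hM, hmax⟩ := Set.exists_max_image {K : Subgroup G | Moves r t a K}
    (fun K => (Nat.card K).factorization r) (Set.toFinite _) ⟨H, h⟩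
  clear h H
  obtain ⟨hMne, hMrot, X, hX, hXc, hXne⟩ := hM
  have hMv : Moves r t a M := ⟨hMne, hMrot, X, hX, hXc, hXne⟩
  have hc := hMv.isPConstrained S.setting
  have hab := S.setting.abelian_two M
  set O := (Cfsg.pPrimeCore r ↥M).map M.subtype with hO
  have hOM : O ≤ M := map_subtype_le _
  have hOn : M ≤ normalizer (O : Set G) := by
    refine (normal_subgroupOf_iff_le_normalizer hOM).1 ?_
    rw [hO, subgroupOf, comap_map_eq_self_of_injective M.subtype_injective]
    infer_instance
  have hOcop : (Nat.card O).Coprime r := by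
    rw [hO, card_map_of_injective M.subtype_injective]
    exact CfsgLib.Solvable.Cores.coprime_card_pPrimeCore r
  obtain ⟨hOodd, hOcore⟩ := hMv.pPrimeCore_le_core S.setting
  obtain ⟨P0, hP0⟩ := hMv.exists_four_le_zj S.setting hr
  set P := (P0 : Subgroup M).map M.subtype with hPdef
  have hPM : P ≤ M := map_subtype_le _
  have hPp : IsPGroup r P := P0.2.map _
  set Z := Cfsg.centerThompsonAOf P with hZdef
  set K := M ⊓ normalizer (Z : Set G) with hKdef
  have hVK : four t a ≤ K := le_inf hMrot.1 hP0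
  -- the factorisation inside `G`
  have hprod : ∀ m ∈ M, ∃ o ∈ O, ∃ k ∈ K, m = o * k := by
    intro m hm
    have hfac := zj_sup_eq_top hr hab hc P0
    obtain ⟨o, ho, k, hk, hok⟩ := Subgroup.mem_sup_of_normal_left.1
      (show (⟨m, hm⟩ : M) ∈ Cfsg.pPrimeCore r ↥M ⊔
        normalizer (Cfsg.centerThompsonAOf (P0 : Subgroup M) : Set M) by rw [hfac]; trivial)
    refine ⟨o, ⟨o, ho, rfl⟩, k, ⟨k.2, ?_⟩, (congrArg Subtype.val hok).symm⟩
    rw [hZdef, hPdef, ← centerThompsonAOf_subtype]
    exact le_normalizer_map M.subtype ⟨k, hk, rfl⟩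
  -- `O ⊔ core K` lies in `core M`
  have hKn : K ≤ normalizer (core K : Set G) := le_normalizer.trans (le_normalizer_core K)
  have hcK : O ⊔ core K ≤ core M := by
    have hle : O ⊔ core K ≤ M := sup_le hOM ((core_le K).trans inf_le_left)
    refine le_core hle ?_ ?_
    · refine (hOodd.mul (odd_card_core K)).of_dvd_nat ⟨_, (CfsgLib.Fusion.Thompson.card_sup_mul_card_inf
        ((core_le K).trans (inf_le_left.trans hOn))).symm⟩
    · intro m hm
      obtain ⟨o, ho, k, hk, rfl⟩ := hprod m hm
      refine mul_mem (le_normalizer (mem_sup_left ho)) (mem_normalizer_iff_map_conj_eq.2 ?_)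
      rw [Subgroup.map_sup]
      congr 1
      · exact mem_normalizer_iff_map_conj_eq.1 (hOn hk.1)
      · exact mem_normalizer_iff_map_conj_eq.1 (hKn hk)
  -- a rotation in `K`
  obtain ⟨g0, hg0, hrot0⟩ : ∃ g ∈ K, Rot t a g := by
    rcases S.setting.type_or_rot hVK with ⟨h1, -⟩ | hr'
    · exfalso
      obtain ⟨g, hg, hrot⟩ := hMrot.2
      obtain ⟨o, ho, k, hk, rfl⟩ := hprod g hg
      obtain ⟨c, hcc, v, hv, rfl⟩ := h1 k hk
      have hoc : o * c ∈ core M := mul_mem (hcK (mem_sup_left ho)) (hcK (mem_sup_right hcc))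
      have e1 : o * c * t * (o * c)⁻¹ = a := by
        rw [← hrot.1]
        have hvt : v * t * v⁻¹ = t := by
          rw [(S.setting.four_comm hv S.setting.t_mem).eq, mul_inv_cancel_right]
        calc o * c * t * (o * c)⁻¹ = o * c * (v * t * v⁻¹) * (o * c)⁻¹ := by rw [hvt]
          _ = _ := by group
      have hta : a * t ∈ core M := by
        rw [← e1]
        have h2 : o * c * (t * (o * c)⁻¹ * t⁻¹) ∈ core M := mul_mem hoc
          (core_conj_mem M (le_normalizer (hMrot.1 S.setting.t_mem)) (inv_mem hoc))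
        rw [S.setting.t_inv] at h2
        convert h2 using 1
        group
      have := eq_one_of_sq_odd (odd_card_core M) hta (by
        rw [S.setting.comm.symm.eq]; exact S.setting.ta_mul_self)
      exact S.setting.ta_ne_one (S.setting.comm.eq.trans this)
    · exact hr'
  -- an invariant Sylow subgroup of the core of `K`, fixed by a rotation
  obtain ⟨X0, hX0s, hX0⟩ := S.setting.exists_sylow_vinv (r := r) (odd_card_core K)
    (S.setting.le_normalizer_core_of_le hVK)
  obtain ⟨g, hg, hrot, hgX⟩ := S.setting.exists_rot_normalizing hVK hX0s hX0 hg0 hrot0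
  have hX0c : IsSylIn r X0 (core M) := by
    refine ⟨hX0s.le.trans (le_sup_right.trans hcK), hX0s.pgroup, fun hd => ?_⟩
    have h1 := relIndex_mul_relIndex X0 (core K) (core M) hX0s.le (le_sup_right.trans hcK)
    rw [← h1] at hd
    refine (hrp.dvd_mul.1 hd).elim hX0s.index fun e => ?_
    have hsub : core M ≤ O ⊔ core K := by
      intro m hm
      obtain ⟨o, ho, k, hk, rfl⟩ := hprod m (core_le M hm)
      refine mul_mem (mem_sup_left ho) (mem_sup_right ?_)
      have hkM : k ∈ core M := by
        have := mul_mem (inv_mem (hcK (mem_sup_left ho))) hm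
        rwa [inv_mul_cancel_left] at this
      exact le_core (N := core M ⊓ K) inf_le_right
        ((odd_card_core M).of_dvd_nat (card_dvd_of_le inf_le_left))
        ((le_inf (inf_le_left.trans (le_normalizer.trans (le_normalizer_core M))) le_normalizer).trans
          inf_normalizer_le_normalizer_inf) ⟨hkM, hk⟩
    have hd2 : (core K).relIndex (core M) ∣ Nat.card O := by
      have hKO : core K ≤ normalizer (O : Set G) := (core_le K).trans (inf_le_left.trans hOn)
      have he : core M = O ⊔ core K := le_antisymm hsub hcK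
      have h2 := CfsgLib.Fusion.Thompson.card_sup_mul_card_inf hKO
      have h3 : Nat.card (core K) * (core K).relIndex (core M) = Nat.card (core M) := by
        rw [← Nat.card_congr (subgroupOfEquivOfLe (le_sup_right.trans hcK : core K ≤ core M)).toEquiv]
        exact ((core K).subgroupOf (core M)).card_mul_index
      rw [← he, ← h3, mul_assoc, mul_comm (Nat.card O)] at h2
      exact Dvd.intro _ (Nat.eq_of_mul_eq_mul_left Nat.card_pos h2)
    exact hrp.coprime_iff_not_dvd.1 hOcop.symm (e.trans hd2)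
  have hX0ne : ¬ X0 ≤ centralizer (four t a : Set G) := by
    intro hle
    obtain ⟨c, -, hcV, hXle⟩ := S.setting.exists_le_conj (odd_card_core M)
      (S.setting.le_normalizer_core_of_le hMrot.1) hXc hX hX0c hX0
    refine hXne (hXle.trans ?_)
    rintro _ ⟨x, hx, rfl⟩
    exact mul_mem (mul_mem hcV (hle hx)) (inv_mem hcV)
  -- `P` and `Z(J(P))` are nontrivial
  have hX1 : X ≠ ⊥ := fun e => hXne (by rw [e]; exact bot_le)
  have hPc : IsSylIn r P M := IsSylIn.of_sylow P0
  have hPne : P ≠ ⊥ := fun e => by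
    have h1 := hPc.card_le (hXc.trans (core_le M)) hX.pgroup
    rw [e, card_bot] at h1
    exact hX1 (card_eq_one.1 (le_antisymm h1 Nat.card_pos))
  have hZp : IsPGroup r Z := hPp.to_le (CfsgLib.Fsys.centerThompsonAOf_le P)
  have hZne : normalizer (Z : Set G) ≠ ⊤ :=
    S.normalizer_ne_top_of_pGroup hZp hr (zj_ne_bot hPp hPne)
  have hmoves : Moves r t a (normalizer (Z : Set G)) :=
    S.moves_of_rot hZne (hVK.trans inf_le_right) hX0
      ((hX0s.le.trans (core_le K)).trans inf_le_right) hg.2 hrot hgX hX0ne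
  -- `P` is a Sylow subgroup of `G`
  obtain ⟨Q, hPQ⟩ := hPp.exists_le_sylow
  suffices hQ : (Q : Subgroup G) = P by exact ⟨Q, by rw [hQ]; exact hmoves⟩
  by_contra hne
  haveI := Q.2.isNilpotent
  have hlt := Group.normalizerCondition_of_isNilpotent (P.subgroupOf (Q : Subgroup G))
    (lt_top_iff_ne_top.2 fun e => hne (le_antisymm (subgroupOf_eq_top.1 e) hPQ))
  set R := (Q : Subgroup G) ⊓ normalizer (P : Set G) with hR
  have hPR : P < R := by
    refine lt_of_le_of_ne (le_inf hPQ le_normalizer) fun e => ?_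
    obtain ⟨⟨y, hyQ⟩, hy, hyP⟩ := SetLike.exists_of_lt hlt
    apply hyP
    rw [mem_subgroupOf, e]
    refine ⟨hyQ, mem_normalizer_fintype fun n hn => ?_⟩
    exact (mem_normalizer_iff.1 hy ⟨n, hPQ hn⟩).1 hn
  have hRN : R ≤ normalizer (Z : Set G) := inf_le_right.trans (normalizer_le_normalizer_zj P)
  obtain ⟨n, hn⟩ := IsPGroup.iff_card.1 (Q.2.to_le inf_le_left : IsPGroup r R)
  have h1 : r ^ n ∣ Nat.card (normalizer (Z : Set G)) := hn ▸ card_dvd_of_le hRN
  have h2 : n ≤ (Nat.card (normalizer (Z : Set G))).factorization r :=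
    (hrp.pow_dvd_iff_le_factorization Nat.card_pos.ne').1 h1
  have h3 : Nat.card P = r ^ (Nat.card M).factorization r := by
    rw [hPdef, card_map_of_injective M.subtype_injective, P0.card_eq_multiplicity]
  have h4 : Nat.card P < Nat.card R := Set.Finite.card_lt_card (Set.toFinite _) hPR
  rw [h3, hn] at h4
  have := hmax _ hmoves
  have := (Nat.pow_lt_pow_iff_right hrp.one_lt).1 h4
  omega

end Hyp

end CfsgLib.GWKlein
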