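import Cfsg.Agent.Lib.GWKlein.A.Overgroup
import Cfsg.Agent.Lib.GWKlein.A.Factor
import Cfsg.Agent.Lib.GWKlein.A.ZJ

/-!
# Maximality of the centraliser of an involution: one prime

If the Fitting subgroup of a maximal `M` strictly above `C(t)` is an `r`-group, its invariant Sylow
`r`-subgroup is Sylow in no larger `r`-group with rotating `N(Z(J))`.
-/

set_option autoImplicit false
set_option linter.unusedSectionVars false
set_option linter.style.haveILetI false

namespace CfsgLib.GWKlein

open Subgroup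
open CfsgLib.Components
open CfsgLib.Components.Bender (fitIn layerIn coreIn)

universe u

variable {G : Type u} [Group G] [Finite G] {t a : G}

/-- If every `O_q(M)`, `q ≠ r`, is trivial, then `F*(M) = O_r(M)`. -/
theorem Over.genFitting_eq {M : Subgroup G} (O : Over t a M) {r : ℕ} [Fact r.Prime]
    (hall : ∀ q : ℕ, q.Prime → q ≠ r → coreIn q M = ⊥) :
    Cfsg.generalizedFittingSubgroup ↥M = Cfsg.pCore r ↥M := by
  have hE : Cfsg.layer ↥M = ⊥ := (Subgroup.map_eq_bot_iff_of_injective _ M.subtype_injective).1 O.layer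
  have hle : fitIn M ≤ coreIn r M := Bender.le_of_parts le_rfl fun s hs _ => by
    refine inf_le_left.trans ?_
    by_cases h : s = r
    · rw [h]
    · rw [hall s hs h]; exact bot_le
  rw [generalizedFitting_eq_fitting_iff.mpr hE]
  exact le_antisymm ((Subgroup.map_le_map_iff_of_injective M.subtype_injective).1 hle)
    (CfsgLib.Solvable.Cores.pCore_le_fittingSubgroup r)

/-- `M` normalises `Z(J(R))`. -/
theorem Over.le_normalizer_zj (S : Hyp G t a) {M : Subgroup G} (O : Over t a M) {r : ℕ}
    [Fact r.Prime] (hr : r ≠ 2) (hall : ∀ q : ℕ, q.Prime → q ≠ r → coreIn q M = ⊥) {R : Subgroup G}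
    (hR : IsSylIn r R (core M)) : M ≤ normalizer (Cfsg.centerThompsonAOf R : Set G) := by
  have hRM : R ≤ M := hR.le.trans (core_le M)
  have hgF := O.genFitting_eq hall
  have hbot := pPrimeCore_eq_bot_of_genFitting hgF
  have hc : Cfsg.IsPConstrained r ↥M :=
    isPConstrained_iff.2 (pLayer_eq_bot_of_layer hbot (layer_eq_bot_of_genFitting hgF))
  obtain ⟨P, hP⟩ := (hR.pgroup.of_equiv (subgroupOfEquivOfLe hRM).symm).exists_le_sylow
  have hPR : (P : Subgroup M).map M.subtype = R := by
    refine hR.eq_of_le ?_ ?_ (P.2.map _)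
    · intro x hx
      exact ⟨⟨x, hRM hx⟩, hP (mem_subgroupOf.2 hx), rfl⟩
    · intro x hx
      refine O.odd_mem x (map_subtype_le _ hx) ?_
      exact odd_orderOf (odd_card_of_isPGroup hr (P.2.map M.subtype)) hx
  have h := zj_sup_eq_top hr (S.setting.abelian_two M) hc P
  rw [hbot, bot_sup_eq] at h
  rw [← hPR, ← centerThompsonAOf_subtype]
  calc M = (⊤ : Subgroup M).map M.subtype := by rw [← MonoidHom.range_eq_map, range_subtype]
    _ ≤ _ := by rw [← h]; exact le_normalizer_map _

/-- The case of one prime. -/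
theorem Over.false_of_one_prime (S : Hyp G t a) {M : Subgroup G} (O : Over t a M) {r : ℕ}
    [Fact r.Prime] (hr : r ≠ 2) (hall : ∀ q : ℕ, q.Prime → q ≠ r → coreIn q M = ⊥)
    {R S0 : Subgroup G} (hR : IsSylIn r R (core M)) (hRS : R ≤ S0) (hS0 : IsPGroup r S0)
    (hMS : S0 ⊓ M ≤ R) (hrot : RotIn t a (normalizer (Cfsg.centerThompsonAOf S0 : Set G))) :
    False := by
  haveI := S.simple
  have hRM : R ≤ M := hR.le.trans (core_le M)
  have hne : R ≠ ⊥ := by
    rintro rfl
    obtain ⟨q, hq, -, hmv⟩ := O.moved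
    by_cases hqr : q = r
    · subst hqr
      refine hmv ?_
      have h1 := hR.card_le (Q := coreIn q M) (le_core (Bender.coreIn_le q M)
        (odd_card_of_isPGroup hr (Bender.isPGroup_coreIn q M)) (Bender.le_normalizer_coreIn q M))
        (Bender.isPGroup_coreIn q M)
      rw [Subgroup.card_bot] at h1
      rw [Subgroup.eq_bot_of_card_le _ h1]
      exact bot_le
    · exact hmv (hall q hq hqr ▸ bot_le)
  set Z := Cfsg.centerThompsonAOf R with hZ
  have hMZ : M ≤ normalizer (Z : Set G) := O.le_normalizer_zj S hr hall hR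
  have hZR : Z ≤ R := CfsgLib.Fsys.centerThompsonAOf_le R
  have hNM : normalizer (Z : Set G) ≤ M :=
    Bender.isUniq_of_isCoatom O.coatom Z (zj_ne_bot hR.pgroup hne) (hZR.trans hRM) hMZ
  have heq : R = S0 := by
    haveI : Group.IsNilpotent S0 := hS0.isNilpotent
    refine le_antisymm hRS (subgroupOf_eq_top.1 ?_)
    by_contra hlt
    obtain ⟨x, hxn, hx⟩ := SetLike.exists_of_lt
      (Group.normalizerCondition_of_isNilpotent (G := S0) _ (lt_top_iff_ne_top.2 hlt))
    refine hx (mem_subgroupOf.2 (hMS ⟨x.2, hNM (normalizer_le_normalizer_zj R ?_)⟩))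
    refine mem_normalizer_iff.2 fun y => ⟨fun hy => ?_, fun hy => ?_⟩
    · have := (mem_normalizer_iff.1 hxn ⟨y, hRS hy⟩).1 (mem_subgroupOf.2 hy)
      simpa [mem_subgroupOf] using this
    · have hy' : y ∈ S0 := by
        have := mul_mem (mul_mem (inv_mem x.2) (hRS hy)) x.2
        simpa [mul_assoc] using this
      have := (mem_normalizer_iff.1 hxn ⟨y, hy'⟩).2 (by simpa [mem_subgroupOf] using hy)
      exact mem_subgroupOf.1 this
  rw [← heq] at hrot
  have hrotM : RotIn t a M := hrot.mono hNM
  exact S.noRot t S.setting.t_mem S.setting.t_ne_one M O.coatom.1 O.le hrotM.2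

end CfsgLib.GWKlein
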