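import Cfsg.Agent.Lib.GWKlein.A.Overgroup
import Cfsg.Agent.Lib.GWKlein.A.Pick
import Cfsg.Agent.Lib.GWKlein.A.Functor
import Cfsg.Agent.Lib.GWKlein.A.ZJ
import Cfsg.Agent.Lib.GWKlein.A.MaxInv
import Cfsg.Agent.Lib.GWKlein.A.Locals
import Cfsg.Agent.Lib.GWKlein.A.OnePrime
import Cfsg.Agent.Lib.GWKlein.A.Uniqueness

/-!
# The centraliser of an involution is maximal

If a maximal subgroup `M` strictly contains `C(t)`, the signaliser completion `W` at a prime `r` with
`t` moving `O_r(M)` contains the rest of `F(M)` and is normalised by a rotating subgroup; Bender's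
uniqueness theorem gives a contradiction.
-/

set_option autoImplicit false
set_option linter.unusedSectionVars false
set_option linter.style.haveILetI false

namespace CfsgLib.GWKlein

open Subgroup
open CfsgLib.Components
open CfsgLib.Components.Bender (fitIn layerIn coreIn)

variable {G : Type*} [Group G] [Finite G] {t a : G}

/-- An invariant `r`-group of `H` with a Sylow subgroup of `oddPart t` meets `C(t)` in one. -/
theorem Setting.isSylIn_inf (S : Setting G t a) {r : ℕ} [Fact r.Prime] {T R : Subgroup G}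
    (hT : IsSylIn r T (oddPart t)) (hR : VInv r t a R) (hTR : T ≤ R) :
    IsSylIn r (R ⊓ centralizer ({t} : Set G)) (oddPart t) := by
  have hle : R ⊓ centralizer ({t} : Set G) ≤ oddPart t :=
    S.le_oddPart (hR.odd.of_dvd_nat (card_dvd_of_le inf_le_left)) inf_le_right
  rw [hT.eq_of_le (le_inf hTR (hT.le.trans (oddPart_le t))) hle (hR.pgroup.to_le inf_le_left)]
  exact hT

/-- No maximal subgroup strictly contains the centraliser of an involution. -/
theorem Over.false (S : Hyp G t a) {M : Subgroup G} (O : Over t a M) : False := by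
  haveI := S.simple
  have T := S.setting
  obtain ⟨r, hrp, hr, hrM⟩ := O.moved
  haveI := Fact.mk hrp
  have hF0 : coreIn r M ≠ ⊥ := fun e => hrM (e ▸ bot_le)
  set F := coreIn r M with hF
  have hFn : M ≤ normalizer (F : Set G) := Bender.le_normalizer_coreIn r M
  have hFv : VInv r t a F := T.vinv_of_pgroup hr (Bender.isPGroup_coreIn r M) (O.four_le.trans hFn)
  have hVc : four t a ≤ normalizer (core M : Set G) := T.le_normalizer_core_of_le O.four_le
  -- invariant Sylow subgroups
  obtain ⟨T0, hT0, hT0v⟩ := T.exists_sylow_vinv (r := r) (odd_card_core (centralizer ({t} : Set G)))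
    T.le_normalizer_oddPart
  have hOM : oddPart t ≤ core M := fun y hy =>
    O.odd_mem y (O.le (oddPart_le t hy)) (T.mem_oddPart.1 hy).1
  obtain ⟨R, hR, hRv, hT0R⟩ :=
    T.exists_sylow_ge (odd_card_core M) hVc (hT0.le.trans hOM) hT0v
  have hRM : R ≤ M := hR.le.trans (core_le M)
  have hFR : F ≤ R := by
    have hFc : F ≤ core M := le_core (Bender.coreIn_le r M) hFv.odd hFn
    have h := hR.eq_of_le (le_sup_left : R ≤ R ⊔ F) (sup_le hR.le hFc)
      (hRv.pgroup.to_sup_of_normal_right' hFv.pgroup (hRM.trans hFn))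
    exact le_sup_right.trans h.le
  obtain ⟨S0, hRS, hmax⟩ := Finite.exists_le_maximal (p := VInv r t a) hRv
  have hS0 := hmax.prop
  have hO : IsSylIn r (S0 ⊓ centralizer ({t} : Set G)) (oddPart t) :=
    T.isSylIn_inf hT0 hS0 (hT0R.trans hRS)
  have hST : S0 ⊓ centralizer ({t} : Set G) ≤ R := by
    rw [(T.isSylIn_inf hT0 hRv hT0R).eq_of_le (inf_le_inf_right _ hRS) hO.le
      (hS0.pgroup.to_le inf_le_left)]
    exact inf_le_left
  have hMS : S0 ⊓ M ≤ R := by
    have hle : S0 ⊓ M ≤ core M := fun y hy =>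
      O.odd_mem y hy.2 (odd_orderOf hS0.odd hy.1)
    rw [hR.eq_of_le (le_inf hRS hRM) hle (hS0.pgroup.to_le inf_le_left)]
  have hne : ¬ S0 ≤ centralizer ({t} : Set G) := fun h => hrM ((hFR.trans hRS).trans h)
  obtain ⟨hmv, I, hIdef, -, hIv, ⟨g, hgH, hg, hgI⟩, htypes, hn, hgen⟩ :=
    S.moves_zj hr (fun H h => S.exists_moves_zj hr h) (fun h hV => T.rotIn_map h hV) hmax hO hne
  by_cases hall : ∀ q : ℕ, q.Prime → q ≠ r → coreIn q M = ⊥
  · exact O.false_of_one_prime S hr hall hR hRS hS0.pgroup hMS hmv.2.1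
  push Not at hall
  obtain ⟨q, hq, hqr, hqM⟩ := hall
  haveI := Fact.mk hq
  have hIS : I ≤ S0 := hIdef.le.trans inf_le_left
  obtain ⟨⟨EI, hEI, hEIe⟩, E0, hE0R, hE0e, hE0Z, hE0S⟩ :=
    T.pick hr hS0 hIv hIS hn hg hgI htypes hgen hST hRv hRS hFv hFR (hRM.trans hFn) hrM
  have hloc : ∀ f ∈ S0, f ≠ 1 → Cfsg.IsPConstrained r ↥(centralizer ({f} : Set G)) ∧
      Group.IsSolvable ↥(Cfsg.centralizerPPrimeCore r f) := fun f hf hf1 =>
    S.locals hr hS0 hO hIv hIS hn htypes hf1 (hS0.pgroup.to_le (zpowers_le.2 hf))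
  obtain ⟨W, hWr, hWE, hWg, hWS⟩ :=
    exists_completion hS0.pgroup hr ⟨EI, hEI.trans hIS, hEIe⟩ hloc
  -- the parts of `F(M)` prime to `r` lie in `W`
  set Z := omegaC r F with hZ
  have hZF : Z ≤ F := omegaC_le r F
  have hZM : M ≤ normalizer (Z : Set G) := hFn.trans (normalizer_le_normalizer_omegaC r F)
  have hNZ : normalizer (Z : Set G) ≤ M := Bender.isUniq_of_isCoatom O.coatom Z
    (omegaC_ne_bot hFv.pgroup hF0) (hZF.trans (Bender.coreIn_le r M)) hZM
  have hother : ∀ s : ℕ, s.Prime → s ≠ r → coreIn s M ≤ W := by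
    intro s hs hsr
    haveI := Fact.mk hs
    set K := coreIn s M
    have hKn : M ≤ normalizer (K : Set G) := Bender.le_normalizer_coreIn s M
    have hE0p : IsPGroup r ↥E0 := isPGroup_of_elementary hE0e.1
    have hnc : ¬ IsCyclic E0 := fun hc => by
      haveI := hc
      obtain ⟨x, hx⟩ := IsCyclic.exists_ofOrder_eq_natCard (α := E0)
      have h1 : orderOf x ∣ r :=
        orderOf_dvd_of_pow_eq_one (Subtype.ext (by simpa using hE0e.1.2 x x.2))
      have h2 := Nat.le_of_dvd hrp.pos h1
      rw [hx] at h2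
      have := hE0e.2.trans h2
      nlinarith [hrp.two_le]
    haveI : IsMulCommutative E0 := hE0e.1.1
    have hKr : ¬ r ∣ Nat.card K := fun hd => by
      obtain ⟨n, hn'⟩ := IsPGroup.iff_card.1 (Bender.isPGroup_coreIn s M)
      exact hsr ((Nat.prime_dvd_prime_iff_eq hrp hs).1 (hrp.dvd_of_dvd_pow (hn' ▸ hd))).symm
    have hcop : (Nat.card E0).Coprime (Nat.card K) := by
      obtain ⟨n, hn'⟩ := IsPGroup.iff_card.1 hE0p
      rw [hn']
      exact Nat.Coprime.pow_left n (hrp.coprime_iff_not_dvd.2 hKr)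
    rw [← Coprime.iSup_centralizer_singleton hnc ((hE0R.trans hRM).trans hKn) hcop]
    refine iSup₂_le fun e he => ?_
    obtain ⟨E, hES, hEe, heE⟩ := hE0S e he.1
    refine le_trans ?_ (hWE E hES hEe e heE he.2)
    refine le_core_of_invariant (hloc e (hES heE) he.2).1 (P0 := Z)
      (fun hd => hKr (hd.trans (card_dvd_of_le inf_le_left))) inf_le_right
      (hFv.pgroup.to_le hZF) (fun z hz => mem_centralizer_singleton'.2
        (mem_centralizer_iff.1 (hE0Z he.1) z hz).symm) ?_ ?_
    · exact inf_le_left.trans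
        ((Bender.coreIn_le_centralizer hsr M).trans (centralizer_le hZF))
    · refine fun x hx => inf_normalizer_le_normalizer_inf ⟨hKn (hNZ ?_), le_normalizer hx.1⟩
      exact centralizer_le_normalizer _ hx.2
  have hW0 : W ≠ ⊥ := fun e => hqM (le_bot_iff.1 (e ▸ hother q hq hqr))
  have hrG : r ∣ Nat.card G := by
    obtain ⟨n, hn'⟩ := IsPGroup.iff_card.1 hFv.pgroup
    refine (dvd_pow_self r fun h0 => hF0 ?_).trans (hn' ▸ card_subgroup_dvd_card F)
    exact Subgroup.eq_bot_of_card_eq _ (by rw [hn', h0, pow_zero])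
  have hNW : normalizer (W : Set G) ≠ ⊤ := S.normalizer_ne_top hW0 fun e =>
    hWr (by rw [e, card_top]; exact hrG)
  obtain ⟨H, hH, hWH⟩ :=
    (eq_top_or_exists_le_coatom (normalizer (W : Set G))).resolve_left hNW
  have hconjE : ∀ x ∈ normalizer (I : Set G), x ∈ normalizer (W : Set G) := fun x hx =>
    hWg x ⟨EI, hEI.trans hIS, hEIe, ((map_mono hEI).trans (map_conj_le_of_le_normalizer hx).le).trans
      hIS⟩
  have hVH : four t a ≤ H := fun v hv => hWH (hconjE v (hIv.le_norm hv))
  have hmvH : Moves r t a H := S.moves_of_rot hH.1 hVH hIv (fun y hy => hWH (hWS (hIS hy)))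
    (hWH (hconjE g hgI)) hg hgI fun hle => htypes t T.t_mem T.t_ne_one (inf_le_left.trans hle)
  refine O.false_of_rotating S hr hqr hqM hF0 hH hmvH ?_
  refine Bender.le_of_parts le_rfl fun s hs _ => inf_le_left.trans ?_
  rcases eq_or_ne s r with rfl | hsr
  · exact ((hFR.trans hRS).trans hWS).trans hWH
  · exact (hother s hs hsr).trans (le_normalizer.trans hWH)

/-- The centraliser of an involution is a maximal subgroup. -/
theorem Hyp.centralizer_isCoatom (S : Hyp G t a) : IsCoatom (centralizer ({t} : Set G)) := by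
  have hC : centralizer ({t} : Set G) ≠ ⊤ := fun e => by
    obtain ⟨g, hg, -⟩ := S.exists_rot
    have h := mem_centralizer_singleton_iff.1 (e ▸ mem_top g : g ∈ centralizer ({t} : Set G))
    exact S.setting.ne (by rw [← hg, h, mul_inv_cancel_right])
  obtain ⟨M, hM, hle⟩ := (eq_top_or_exists_le_coatom (centralizer ({t} : Set G))).resolve_left hC
  by_cases hMC : M ≤ centralizer ({t} : Set G)
  · exact (le_antisymm hMC hle) ▸ hM
  · exact ((S.over hM hle hMC).false S).elim

end CfsgLib.GWKlein
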