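import Cfsg.Agent.Lib.GWKlein.A.Rotating

/-!
# A maximal subgroup strictly containing the centraliser of an involution

Such a subgroup `M` is its core times the four-group, is soluble, has `O₂(M) = 1` and `F(M)` in its
core, and `t` does not centralise some `O_r(M)`.
-/

set_option autoImplicit false
set_option linter.unusedSectionVars false
set_option linter.style.haveILetI false

namespace CfsgLib.GWKlein

open Subgroup
open CfsgLib.Components
open CfsgLib.Components.Bender (fitIn layerIn coreIn)

variable {G : Type*} [Group G] [Finite G] {t a : G}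

theorem Hyp.exists_rot (S : Hyp G t a) : ∃ g : G, Rot t a g := by
  rcases S.setting.type_or_rot (H := (⊤ : Subgroup G)) le_top with ⟨h, -⟩ | ⟨g, -, hg⟩
  · exfalso
    haveI : (core (⊤ : Subgroup G)).Normal := normalizer_eq_top_iff.1 (eq_top_iff.2 (le_trans
      (by rw [normalizer_eq_top]) (le_normalizer_core _)))
    have h2 := S.two_dvd
    rcases S.eq_bot_or_eq_top (N := core (⊤ : Subgroup G)) inferInstance with e | e
    · have hall : ∀ x : G, x ∈ four t a := fun x => by
        obtain ⟨k, hk, v, hv, rfl⟩ := h x (mem_top x)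
        rw [e, mem_bot] at hk
        rw [hk, one_mul]
        exact hv
      haveI : (zpowers t).Normal := ⟨fun n hn x => by
        obtain ⟨i, rfl⟩ := mem_zpowers_iff.1 hn
        rw [((S.setting.four_comm (hall x) (hall t)).zpow_right i).eq, mul_inv_cancel_right]
        exact ⟨i, rfl⟩⟩
      rcases S.eq_bot_or_eq_top (N := zpowers t) inferInstance with e1 | e1
      · exact S.setting.t_ne_one (mem_bot.1 (e1 ▸ mem_zpowers t))
      · have h4 := S.setting.card_four
        have h1 : Nat.card (zpowers t) = 2 := by rw [Nat.card_zpowers, S.setting.t2]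
        rw [e1, card_top] at h1
        have := h1 ▸ card_subgroup_dvd_card (four t a)
        rw [h4] at this
        norm_num at this
    · have ho := odd_card_core (⊤ : Subgroup G)
      rw [e, card_top] at ho
      exact (Nat.not_even_iff_odd.2 ho) (even_iff_two_dvd.2 h2)
  · exact ⟨g, hg⟩

/-- `C(v) ≤ C(w)` for two involutions of the four-group forces equality. -/
theorem Hyp.centralizer_eq_of_le (S : Hyp G t a)
    (h : centralizer ({t} : Set G) ≤ centralizer ({a} : Set G)) :
    centralizer ({t} : Set G) = centralizer ({a} : Set G) := by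
  obtain ⟨g, hg, -⟩ := S.exists_rot
  refine Subgroup.eq_of_le_of_card_ge h (le_of_eq ?_)
  refine (Nat.card_congr ?_).symm
  exact {
    toFun := fun x => ⟨g * x * g⁻¹, mem_centralizer_singleton_iff.2 (by
      rw [← hg]
      calc g * x * g⁻¹ * (g * t * g⁻¹) = g * ((x : G) * t) * g⁻¹ := by group
        _ = g * (t * x) * g⁻¹ := by rw [mem_centralizer_singleton_iff.1 x.2]
        _ = g * t * g⁻¹ * (g * x * g⁻¹) := by group)⟩
    invFun := fun x => ⟨g⁻¹ * x * g, mem_centralizer_singleton_iff.2 (by
      calc g⁻¹ * x * g * t = g⁻¹ * ((x : G) * (g * t * g⁻¹)) * g := by group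
        _ = g⁻¹ * (g * t * g⁻¹ * x) * g := by rw [hg, mem_centralizer_singleton_iff.1 x.2]
        _ = t * (g⁻¹ * x * g) := by group)⟩
    left_inv := fun x => Subtype.ext (by show g⁻¹ * (g * x * g⁻¹) * g = x; group)
    right_inv := fun x => Subtype.ext (by show g * (g⁻¹ * x * g) * g⁻¹ = x; group) }

/-- What is known about a maximal subgroup strictly containing `C(t)`. -/
structure Over (t a : G) (M : Subgroup G) : Prop where
  coatom : IsCoatom M
  le : centralizer ({t} : Set G) ≤ M
  four_le : four t a ≤ M
  not_le : ¬ M ≤ centralizer ({t} : Set G)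
  split : ∀ h ∈ M, ∃ k ∈ core M, ∃ v ∈ four t a, h = k * v
  odd_mem : ∀ h ∈ M, Odd (orderOf h) → h ∈ core M
  layer : layerIn M = ⊥
  two : coreIn 2 M = ⊥
  fit : fitIn M ≤ core M
  moved : ∃ r : ℕ, r.Prime ∧ r ≠ 2 ∧ ¬ coreIn r M ≤ centralizer ({t} : Set G)

theorem Hyp.over (S : Hyp G t a) {M : Subgroup G} (hM : IsCoatom M)
    (hC : centralizer ({t} : Set G) ≤ M) (hne : ¬ M ≤ centralizer ({t} : Set G)) :
    Over t a M := by
  haveI : Fact (Nat.Prime 2) := ⟨Nat.prime_two⟩
  have hV : four t a ≤ M := (S.setting.four_le_centralizer S.setting.t_mem).trans hC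
  rcases S.setting.type_or_rot hV with ⟨hsplit, hodd⟩ | hrot
  swap
  · exact absurd hrot (S.noRot t S.setting.t_mem S.setting.t_ne_one M hM.1 hC)
  have hcore_v : ∀ v ∈ four t a, core M ≤ centralizer ({v} : Set G) →
      M ≤ centralizer ({v} : Set G) := by
    intro v hv hle h hh
    obtain ⟨k, hk, w, hw, rfl⟩ := hsplit h hh
    exact mul_mem (hle hk) (S.setting.four_le_centralizer hv hw)
  have hlayer : layerIn M = ⊥ := by
    rw [layerIn, layer_eq_bot_of_solvable, Subgroup.map_bot]
    haveI : Group.IsSolvable ↥(core M) := Cfsg.Agent.S0205.result (odd_card_core M)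
    haveI hn : ((core M).subgroupOf M).Normal :=
      (normal_subgroupOf_iff_le_normalizer (core_le M)).2
        (le_normalizer.trans (le_normalizer_core M))
    haveI : Group.IsSolvable ↥((core M).subgroupOf M) :=
      Group.isSolvable_of_isSolvable_injective
        (f := (subgroupOfEquivOfLe (core_le M)).toMonoidHom) (MulEquiv.injective _)
    have hcomm : IsMulCommutative (↥M ⧸ (core M).subgroupOf M) := by
      refine ⟨⟨fun x y => ?_⟩⟩
      obtain ⟨x, rfl⟩ := QuotientGroup.mk_surjective x
      obtain ⟨y, rfl⟩ := QuotientGroup.mk_surjective y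
      obtain ⟨k, hk, v, hv, hx⟩ := hsplit x x.2
      obtain ⟨l, hl, w, hw, hy⟩ := hsplit y y.2
      have ex : (QuotientGroup.mk x : ↥M ⧸ (core M).subgroupOf M) =
          QuotientGroup.mk (⟨v, hV hv⟩ : M) := by
        rw [show x = (⟨k, core_le M hk⟩ : M) * ⟨v, hV hv⟩ from Subtype.ext hx, QuotientGroup.mk_mul,
          (QuotientGroup.eq_one_iff _).2 (mem_subgroupOf.2 hk), one_mul]
      have ey : (QuotientGroup.mk y : ↥M ⧸ (core M).subgroupOf M) =
          QuotientGroup.mk (⟨w, hV hw⟩ : M) := by
        rw [show y = (⟨l, core_le M hl⟩ : M) * ⟨w, hV hw⟩ from Subtype.ext hy, QuotientGroup.mk_mul,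
          (QuotientGroup.eq_one_iff _).2 (mem_subgroupOf.2 hl), one_mul]
      rw [ex, ey, ← QuotientGroup.mk_mul, ← QuotientGroup.mk_mul]
      exact congrArg _ (Subtype.ext (S.setting.four_comm hv hw).eq)
    haveI : Group.IsSolvable (↥M ⧸ (core M).subgroupOf M) :=
      letI : CommGroup (↥M ⧸ (core M).subgroupOf M) :=
        { (inferInstance : Group _) with mul_comm := hcomm.is_comm.comm }
      inferInstance
    exact Group.isSolvable_of_ker_le_range ((core M).subgroupOf M).subtype
      (QuotientGroup.mk' ((core M).subgroupOf M)) (by rw [QuotientGroup.ker_mk', range_subtype])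
  have htwo : coreIn 2 M = ⊥ := by
    by_contra hN
    set N := coreIn 2 M
    have hN2 : IsPGroup 2 N := Bender.isPGroup_coreIn 2 M
    have hMN : M ≤ normalizer (N : Set G) := Bender.le_normalizer_coreIn 2 M
    obtain ⟨P, hP⟩ := S.setting.exists_sylow
    have hV2 : IsPGroup 2 ↥(four t a) := hP ▸ P.2
    have hNV : N ≤ four t a := by
      have hsup : IsPGroup 2 (N ⊔ four t a : Subgroup G) :=
        hN2.to_sup_of_normal_left' hV2 (hV.trans hMN)
      rw [← hP, ← P.3 hsup (hP.le.trans le_sup_right)]
      exact le_sup_left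
    obtain ⟨v, hvN, hv1⟩ : ∃ v ∈ N, v ≠ 1 := by
      by_contra hc
      push Not at hc
      exact hN (eq_bot_iff.2 fun x hx => mem_bot.2 (hc x hx))
    have hWv : core M ≤ centralizer ({v} : Set G) := fun k hk => by
      have h1 : k * v * k⁻¹ * v⁻¹ ∈ N :=
        mul_mem (conj_mem_of_mem_normalizer (hMN (core_le M hk)) hvN) (inv_mem hvN)
      have h2 : k * v * k⁻¹ * v⁻¹ ∈ core M := by
        rw [show k * v * k⁻¹ * v⁻¹ = k * (v * k⁻¹ * v⁻¹) by group]
        exact mul_mem hk (core_conj_mem M (le_normalizer (hV (hNV hvN))) (inv_mem hk))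
      have h3 : k * v * k⁻¹ * v⁻¹ = 1 :=
        eq_one_of_sq_odd (odd_card_core M) h2 (S.setting.four_sq (hNV h1))
      exact mem_centralizer_singleton_iff.2 (mul_inv_eq_iff_eq_mul.1 (mul_inv_eq_one.1 h3))
    have hMv := hcore_v v (hNV hvN) hWv
    rcases S.setting.mem_four_iff.1 (hNV hvN) with e | e | e | e
    · exact hv1 e
    · exact hne (e ▸ hMv)
    · rw [e] at hMv
      exact hne (hMv.trans (S.centralizer_eq_of_le (hC.trans hMv)).ge)
    · rw [e] at hMv
      have h3 : centralizer ({t} : Set G) ≤ centralizer ({a} : Set G) := fun x hx => by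
        have e1 := mem_centralizer_singleton'.1 (hC.trans hMv hx)
        have e2 := (mem_centralizer_singleton'.1 hx).mul_left e1
        rw [← mul_assoc, S.setting.t_mul_self, one_mul] at e2
        exact mem_centralizer_singleton'.2 e2
      refine hne fun x hx => ?_
      have e1 := mem_centralizer_singleton'.1 (hMv hx)
      have hxa : x ∈ centralizer ({a} : Set G) := by
        obtain ⟨k, hk, w, hw, rfl⟩ := hsplit x hx
        refine mul_mem ?_ (S.setting.four_le_centralizer S.setting.a_mem hw)
        exact h3 (by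
          have hk' : k ∈ centralizer ({t * a} : Set G) := hMv (core_le M hk)
          have h4 : centralizer ({a} : Set G) ≤ centralizer ({t * a} : Set G) := fun y hy => by
            rw [← S.centralizer_eq_of_le h3] at hy
            exact (mem_centralizer_singleton'.2 ((mem_centralizer_singleton'.1 hy).mul_left
              (mem_centralizer_singleton'.1 (h3 hy))))
          rw [← S.shift.centralizer_eq_of_le h4] at hk'
          exact (S.centralizer_eq_of_le h3).ge hk')
      have e2 := e1.mul_left (mem_centralizer_singleton'.1 hxa)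
      rw [mul_assoc, S.setting.a_mul_self, mul_one] at e2
      exact mem_centralizer_singleton'.2 e2
  have hfit : fitIn M ≤ core M := Bender.le_of_parts le_rfl fun s hs _ => by
    haveI := Fact.mk hs
    refine inf_le_left.trans ?_
    by_cases h2 : s = 2
    · subst h2; rw [htwo]; exact bot_le
    · exact le_core (Bender.coreIn_le s M) (odd_card_of_isPGroup h2 (Bender.isPGroup_coreIn s M))
        (Bender.le_normalizer_coreIn s M)
  refine ⟨hM, hC, hV, hne, hsplit, hodd, hlayer, htwo, hfit, ?_⟩
  by_contra hno
  push Not at hno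
  refine hne (hcore_v t S.setting.t_mem (le_centralizer_of_fitting (odd_card_core M)
    S.setting.t_mul_self (S.setting.le_normalizer_core_of_le hV S.setting.t_mem) ?_))
  have hF : fitIn M ≤ centralizer ({t} : Set G) := Bender.le_of_parts le_rfl fun s hs _ => by
    haveI := Fact.mk hs
    refine inf_le_left.trans ?_
    by_cases h2 : s = 2
    · subst h2; rw [htwo]; exact bot_le
    · exact hno s hs h2
  exact mem_centralizer_iff.2 fun f hf =>
    mem_centralizer_singleton_iff.1 (hF (Moves.fitIn_core_le M hf))

end CfsgLib.GWKlein
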